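import Mathlib
import Groth.Agent.Lib.Helper3.AlgSt.LocEssSurj
import Groth.Agent.Lib.Helper3.AlgSt.Points.QuasiCompact
import Groth.Agent.Lib.Helper3.AlgSpCov.YonCoprod
import Groth.Agent.Lib.Helper5.AlgSp.UnivHomeoSp

/-!
# A single fppf chart through a locally essentially surjective 1-morphism (helper3)

If `x : 𝒵 ⥤ᵇ 𝒳` is representable by algebraic spaces and locally essentially surjective, then every
chart `a : (Sch/W) ⥤ᵇ 𝒳` lifts through `x` after ONE flat, locally finitely presented, surjective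
morphism of schemes `c : V ⟶ W`.
-/

set_option autoImplicit false
universe u
open CategoryTheory CategoryTheory.Limits Opposite AlgebraicGeometry

namespace Groth.Agent.H3.GerbSec

open Groth.Agent.H3.FibCatAux Groth.Agent.H3.GerbAux Groth.Agent.H3.FpCalc Groth.Agent.H3.TwoCart
  Groth.Agent.H3.StackPsh Groth.Agent.H3.PshBridge Groth.Agent.H3.AlgStAux Groth.Agent.H3.RepBridge
  Groth.Agent.H3.SetoidPsh Groth.Agent.H3.BaseChangeSp Groth.Agent.H3.AlgStComp
  Groth.Agent.H3.AlgStProps Groth.Agent.H3.AlgStBridge2 Groth.Agent.H3.AlgStCharts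
  Groth.Agent.H3.AlgStDescent Groth.Agent.H3.Whisker Groth.Agent.H3.AlgStLES
  Groth.Agent.H3.AlgSpCov
open AlgSp

variable {S : Scheme.{u}}

/-- `spMapOfOver` only depends on the functor up to isomorphism -/
lemma spMapOfOver_eq_of_iso {F : Sp S} {U : Over S} {Φ Φ' : AlgSt.ofSp F ⥤ᵇ FibCat.overCat U}
    (β : Φ ≅ Φ') : AlgSt.spMapOfOver Φ = AlgSt.spMapOfOver Φ' :=
  spMapOfOver_eq_of_pointwise (fun a => ⟨(appIso β a).hom, appIso_hom_isHomLift β a rfl⟩)

lemma spMapOfOver_toOver_overMap {V W : Over S} (h : V ⟶ W) :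
    AlgSt.spMapOfOver (BasedFunctor.comp (toOver V) (AlgSt.overMap h)) = (yon S).map h := by
  apply ObjectProperty.hom_ext
  ext T x
  induction T using Opposite.rec with | _ T => ?_
  show (AlgSt.spMapOfOver (BasedFunctor.comp (toOver V) (AlgSt.overMap h))).hom.app (op T) x = _
  rw [AlgSt.spMapOfOver_app]
  apply ULift.ext
  show AlgSt.secHom (BasedFunctor.comp (toOver V) (AlgSt.overMap h)) ⟨T, x⟩ = _
  unfold AlgSt.secHom
  exact Category.id_comp _

/-- the functor of a surjective morphism of schemes is surjective -/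
theorem rep_overMap_surj {T U : Over S} (c : T ⟶ U) (hc : Function.Surjective c.left) :
    AlgSt.RepByAlgSpWith AlgSp.IsSurjectiveMor (AlgSt.overMap c) := by
  obtain ⟨ι⟩ := overMapIso c
  have h1 : AlgSt.RepByAlgSpWith AlgSp.IsSurjectiveMor
      (Stk.ofPshMap ((AlgSp.yon S).map c).hom) :=
    (repByAlgSpWith_ofPshMap_iff _ good_isSurjectiveMor.bc good_isSurjectiveMor.toC.charts
      (AlgSp.IsAlgSpace.yon_obj T) (AlgSp.IsAlgSpace.yon_obj U) ((AlgSp.yon S).map c)).2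
      ((Groth.Agent.H5.AlgSp.surjective_points_map_yon_map_iff c).2 hc)
  exact repByAlgSpWith_of_square' _ (AlgSt.overMap c) (Stk.ofPshMap ((AlgSp.yon S).map c).hom)
    (toOver T) (toOver U) (isEquivOver_toOver T) (isEquivOver_toOver U) ι h1

variable {𝒳 𝒵 : AlgSt.Cat S}

theorem exists_single_chart (x : 𝒵 ⥤ᵇ 𝒳) (hx1 : AlgSt.RepByAlgSp1 x) (hLES : LES x)
    (W : Over S) (a : FibCat.overCat W ⥤ᵇ 𝒳) :
    ∃ (V : Over S) (c : V ⟶ W) (z : FibCat.overCat V ⥤ᵇ 𝒵), Flat c.left ∧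
      LocallyOfFinitePresentation c.left ∧ Function.Surjective c.left ∧
      Nonempty (BasedFunctor.comp z x ≅ BasedFunctor.comp (AlgSt.overMap c) a) := by
  obtain ⟨Y, e, he⟩ := hx1 W a
  obtain ⟨e', -, ⟨η⟩, ⟨ε⟩⟩ := isEquivOver_symm he
  obtain ⟨R, hR, hlift⟩ := hLES W a
  obtain ⟨Vt, h, hRh, hfl, hlfp, hrange⟩ := exists_family_of_mem_J R hR
  have hch : ∀ t, ∃ zt : FibCat.overCat (Vt t) ⥤ᵇ 𝒵,
      Nonempty (BasedFunctor.comp zt x ≅ BasedFunctor.comp (AlgSt.overMap (h t)) a) :=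
    fun t => hlift (h t) (hRh t)
  choose zt hzt using hch
  obtain ⟨b, hb⟩ : ∃ b : Y.obj ⟶ (yon S).obj W,
      b = AlgSt.spMapOfOver (BasedFunctor.comp e (FibCat.fpFst a x)) := ⟨_, rfl⟩
  -- the local sections of `Y`
  have hσt : ∀ t, ∃ σt : (yon S).obj (Vt t) ⟶ Y.obj, σt ≫ b = (yon S).map (h t) := by
    intro t
    obtain ⟨ι⟩ := hzt t
    let Λ : FibCat.overCat (Vt t) ⥤ᵇ FibCat.fp a x :=
      FibCat.fpLift (AlgSt.overMap (h t)) (zt t) ι.symm
    let ρ : AlgSt.ofSp ((yon S).obj (Vt t)) ⥤ᵇ AlgSt.ofSp Y.obj :=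
      BasedFunctor.comp (toOver (Vt t)) (BasedFunctor.comp Λ e')
    refine ⟨ObjectProperty.homMk (pshMapOf ρ), ?_⟩
    rw [hb, ← spMapOfOver_ofSpMap_comp]
    obtain ⟨α⟩ := iso_ofPshMap_pshMapOf ρ
    have hΛ : BasedFunctor.comp Λ (FibCat.fpFst a x) = AlgSt.overMap (h t) :=
      basedFunctor_ext rfl
    have e1 : AlgSt.spMapOfOver (BasedFunctor.comp (AlgSt.ofSpMap (ObjectProperty.homMk (pshMapOf ρ)))
        (BasedFunctor.comp e (FibCat.fpFst a x))) =
        AlgSt.spMapOfOver (BasedFunctor.comp ρ (BasedFunctor.comp e (FibCat.fpFst a x))) :=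
      spMapOfOver_eq_of_iso (whiskerR α.symm (BasedFunctor.comp e (FibCat.fpFst a x)))
    have e2 : AlgSt.spMapOfOver (BasedFunctor.comp ρ (BasedFunctor.comp e (FibCat.fpFst a x))) =
        AlgSt.spMapOfOver (BasedFunctor.comp (toOver (Vt t))
          (BasedFunctor.comp Λ (FibCat.fpFst a x))) :=
      spMapOfOver_eq_of_iso (whiskerL (toOver (Vt t)) (whiskerL Λ (whiskerR ε (FibCat.fpFst a x))))
    rw [hΛ] at e2
    exact e1.trans (e2.trans (spMapOfOver_toOver_overMap (h t)))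
  choose σt hσt' using hσt
  obtain ⟨σ, hσ, -⟩ := existsUnique_yon_sigmaOver_desc Vt Y.obj σt
  obtain ⟨c, hc⟩ : ∃ c : sigmaOver Vt ⟶ W, c = sigmaOverDesc Vt h := ⟨_, rfl⟩
  have hσb : σ ≫ b = (yon S).map c := by
    have hu := existsUnique_yon_sigmaOver_desc Vt ((yon S).obj W) (fun t => (yon S).map (h t))
    refine hu.unique (fun t => ?_) (fun t => ?_)
    · rw [← Category.assoc, hσ t, hσt' t]
    · rw [← Functor.map_comp, hc, sigmaOverι_desc]
  have hcl : c.left = Sigma.desc fun j => (h j).left := by rw [hc]; rfl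
  have hflat : Flat c.left := by
    rw [hcl]; exact IsZariskiLocalAtSource.sigmaDesc (P := @Flat) hfl
  have hlfp' : LocallyOfFinitePresentation c.left := by
    rw [hcl]; exact IsZariskiLocalAtSource.sigmaDesc (P := @LocallyOfFinitePresentation) hlfp
  have hsurj : Function.Surjective c.left := by
    intro w
    obtain ⟨v, hv⟩ := hrange w
    refine ⟨(sigmaOverι Vt w).left v, ?_⟩
    rw [← Scheme.Hom.comp_apply, ← Over.comp_left, hc, sigmaOverι_desc, hv]
  let Ψ : FibCat.overCat (sigmaOver Vt) ⥤ᵇ FibCat.fp a x :=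
    BasedFunctor.comp (ofOver (sigmaOver Vt)) (BasedFunctor.comp (AlgSt.ofSpMap σ) e)
  refine ⟨sigmaOver Vt, c, BasedFunctor.comp Ψ (FibCat.fpSnd a x), hflat, hlfp', hsurj, ?_⟩
  let Φ : AlgSt.ofSp ((yon S).obj (sigmaOver Vt)) ⥤ᵇ FibCat.overCat W :=
    BasedFunctor.comp (AlgSt.ofSpMap σ) (BasedFunctor.comp e (FibCat.fpFst a x))
  have hΦ : AlgSt.spMapOfOver Φ = (yon S).map c := by
    rw [← hσb, hb]; exact spMapOfOver_ofSpMap_comp σ _
  obtain ⟨ι₁⟩ := projIso Φ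
  rw [hΦ] at ι₁
  obtain ⟨ι₂⟩ := overMapIso c
  let i2 : BasedFunctor.comp Ψ (FibCat.fpFst a x) ≅ AlgSt.overMap c :=
    whiskerL (ofOver (sigmaOver Vt)) (ι₁ ≪≫ ι₂)
  let i1 : BasedFunctor.comp (BasedFunctor.comp Ψ (FibCat.fpFst a x)) a ≅
      BasedFunctor.comp (BasedFunctor.comp Ψ (FibCat.fpSnd a x)) x :=
    whiskerL Ψ (FibCat.fpIso a x)
  exact ⟨i1.symm ≪≫ whiskerR i2 a⟩

end Groth.Agent.H3.GerbSec
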