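import Mathlib
import Groth.Agent.H4.GrbA
import Groth.Agent.Lib.Helper3.AlgSt.LocEssSurj

/-!
# A section of a gerbe is locally essentially surjective (helper3)
-/

set_option autoImplicit false
universe u
open CategoryTheory CategoryTheory.Functor CategoryTheory.Limits Opposite AlgebraicGeometry

namespace Groth.Agent.H3.GerbSec

open Groth.Agent.H3.FibCatAux Groth.Agent.H3.GerbAux Groth.Agent.H3.FpCalc Groth.Agent.H3.StkAux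
  Groth.Agent.H3.AlgStLES Groth.Agent.H3.FibCatYoneda

variable {S : Scheme.{u}} {𝒳 𝒰 : AlgSt.Cat S}

/-- if any two objects of `𝒳` with isomorphic images under `π` are locally isomorphic, then a
section `x` of `π` is locally essentially surjective -/
theorem les_of_section (h𝒳 : FibCat.IsFibGrpd 𝒳.p) (h𝒰 : FibCat.IsFibGrpd 𝒰.p) (π : 𝒳 ⥤ᵇ 𝒰)
    (hπ : Gerb.LocSurjHom (AlgSp.J S) π) (x : 𝒰 ⥤ᵇ 𝒳)
    (e : BasedFunctor.comp x π ≅ BasedFunctor.id 𝒰) : LES x := by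
  intro T y
  obtain ⟨y₀, hy₀⟩ : ∃ y₀ : 𝒳.obj, y₀ = y.obj (Over.mk (𝟙 T)) := ⟨_, rfl⟩
  have hy₀T : 𝒳.p.obj y₀ = T := by rw [hy₀]; exact y.w_obj (Over.mk (𝟙 T))
  have hu₀T : 𝒰.p.obj (π.obj y₀) = T := (π.w_obj y₀).trans hy₀T
  have hπ' := (locSurjHom_iff (AlgSp.J S) π).1 hπ
  obtain ⟨b, hb⟩ : ∃ b : π.obj (x.obj (π.obj y₀)) ⟶ π.obj y₀, b = (appIso e (π.obj y₀)).hom :=
    ⟨_, rfl⟩
  have hbl : 𝒰.p.IsHomLift (𝟙 T) b := by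
    rw [hb]; exact appIso_hom_isHomLift e (π.obj y₀) hu₀T
  obtain ⟨R, hR, h3⟩ := hπ' T (x.obj (π.obj y₀)) y₀ b hbl
  refine ⟨R, hR, fun V h hRh => ?_⟩
  obtain ⟨x', φ, ψ, hφ, hψ, -⟩ := h3 h hRh
  obtain ⟨u₁, ℓ, hℓ⟩ := exists_lift'' h𝒰 h (π.obj y₀) hu₀T
  have hu₁ : 𝒰.p.obj u₁ = V := IsHomLift.domain_eq 𝒰.p h ℓ
  haveI := hℓ
  haveI hxl : 𝒳.p.IsHomLift h (x.map ℓ) := BasedFunctor.preserves_isHomLift x h ℓ
  haveI := hφ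
  haveI hφc : 𝒳.p.IsStronglyCartesian h φ := isStronglyCartesian_of_isHomLift 𝒳.p h𝒳 h φ
  haveI hxl' : 𝒳.p.IsHomLift (𝟙 V ≫ h) (x.map ℓ) := by rw [Category.id_comp]; exact hxl
  obtain ⟨m, hm⟩ : ∃ m : x.obj u₁ ⟶ x',
      m = IsStronglyCartesian.map 𝒳.p h φ (f' := 𝟙 V ≫ h) rfl (x.map ℓ) := ⟨_, rfl⟩
  haveI hml : 𝒳.p.IsHomLift (𝟙 V) m := by
    rw [hm]; exact IsStronglyCartesian.map_isHomLift 𝒳.p h φ rfl (x.map ℓ)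
  haveI := hψ
  have hg : 𝒳.p.IsHomLift h (m ≫ ψ) := by
    have h0 : 𝒳.p.IsHomLift (𝟙 V ≫ h) (m ≫ ψ) := inferInstance
    rwa [Category.id_comp] at h0
  subst hy₀
  exact Groth.Agent.H4.GrbA.exists_iso_of_hom h𝒰 h𝒳 x h y u₁ hu₁ (m ≫ ψ) hg

end Groth.Agent.H3.GerbSec
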