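import Mathlib
import Groth.Agent.Lib.Helper3.AlgSt.LocEssSurj
import Groth.Agent.Lib.Helper3.SmSrc.SheafSurj
import Groth.Agent.Lib.Helper8.AlgSp.MorCalc

/-!
# Presentations of categories over `(Sch/S)` by algebraic spaces (helper3)

A `Pres 𝒜` is an algebraic space `A` with an equivalence `ofSp A ≃ 𝒜` over `(Sch/S)`.  A functor
`f : 𝒜 ⥤ᵇ ℬ` between presented categories has an underlying morphism of algebraic spaces
`flatMap f`, functorial in `f`, and `f` is representable by algebraic spaces with `P` iff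
`flatMap f` has `P`.
-/

set_option autoImplicit false
universe u
open CategoryTheory CategoryTheory.Functor CategoryTheory.Limits Opposite AlgebraicGeometry

namespace Groth.Agent.H3.GerbSec

open Groth.Agent.H3.FibCatAux Groth.Agent.H3.GerbAux Groth.Agent.H3.FpCalc Groth.Agent.H3.TwoCart
  Groth.Agent.H3.StackPsh Groth.Agent.H3.PshBridge Groth.Agent.H3.AlgStAux Groth.Agent.H3.RepBridge
  Groth.Agent.H3.SetoidPsh Groth.Agent.H3.BaseChangeSp Groth.Agent.H3.AlgStComp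
  Groth.Agent.H3.AlgStProps Groth.Agent.H3.AlgStBridge2 Groth.Agent.H3.AlgStCharts
  Groth.Agent.H3.AlgStDescent Groth.Agent.H3.Whisker Groth.Agent.H3.AlgStLES
open AlgSp

variable {S : Scheme.{u}}

/-- a presentation of `𝒜` by an algebraic space -/
structure Pres (𝒜 : AlgSt.Cat S) where
  sp : AlgSp.Space S
  e : AlgSt.ofSp sp.obj ⥤ᵇ 𝒜
  e' : 𝒜 ⥤ᵇ AlgSt.ofSp sp.obj
  η : BasedFunctor.comp e e' ≅ BasedFunctor.id (AlgSt.ofSp sp.obj)
  ε : BasedFunctor.comp e' e ≅ BasedFunctor.id 𝒜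

variable {𝒜 ℬ 𝒞 : AlgSt.Cat S}

theorem Pres.he (p : Pres 𝒜) : FibCat.IsEquivOver p.e := ⟨p.e', ⟨p.η⟩, ⟨p.ε⟩⟩

theorem Pres.he' (p : Pres 𝒜) : FibCat.IsEquivOver p.e' := ⟨p.e, ⟨p.ε⟩, ⟨p.η⟩⟩

theorem exists_pres (h : AlgSt.RepByAlgSp 𝒜) : Nonempty (Pres 𝒜) := by
  obtain ⟨F, e, e', ⟨η⟩, ⟨ε⟩⟩ := h
  exact ⟨⟨F, e, e', η, ε⟩⟩

/-- the tautological presentation of the category of an algebraic space -/
def presOfSp (A : AlgSp.Space S) : Pres (AlgSt.ofSp A.obj) where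
  sp := A
  e := BasedFunctor.id _
  e' := BasedFunctor.id _
  η := eqToIso rfl
  ε := eqToIso rfl

/-- the presentation of a slice by the sheaf of the scheme -/
noncomputable def presOver (V : Over S) : Pres (FibCat.overCat V) where
  sp := ⟨(yon S).obj V, IsAlgSpace.yon_obj V⟩
  e := AlgSt.toOverCat V
  e' := AlgSt.ofOverCat V
  η := eqToIso rfl
  ε := eqToIso rfl

/-- the morphism of algebraic spaces underlying a functor between presented categories -/
noncomputable def flatMap (pA : Pres 𝒜) (pB : Pres ℬ) (f : 𝒜 ⥤ᵇ ℬ) : pA.sp ⟶ pB.sp :=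
  ObjectProperty.homMk (ObjectProperty.homMk
    (pshMapOf (BasedFunctor.comp pA.e (BasedFunctor.comp f pB.e'))))

lemma flatMap_hom_hom (pA : Pres 𝒜) (pB : Pres ℬ) (f : 𝒜 ⥤ᵇ ℬ) :
    (flatMap pA pB f).hom.hom = pshMapOf (BasedFunctor.comp pA.e (BasedFunctor.comp f pB.e')) :=
  rfl

theorem flatMap_iso (pA : Pres 𝒜) (pB : Pres ℬ) {f f' : 𝒜 ⥤ᵇ ℬ} (α : f ≅ f') :
    flatMap pA pB f = flatMap pA pB f' := by
  apply ObjectProperty.hom_ext
  apply ObjectProperty.hom_ext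
  exact pshMapOf_eq_of_iso (whiskerL pA.e (whiskerR α pB.e'))

theorem flatMap_comp (pA : Pres 𝒜) (pB : Pres ℬ) (pC : Pres 𝒞) (f : 𝒜 ⥤ᵇ ℬ) (g : ℬ ⥤ᵇ 𝒞) :
    flatMap pA pC (BasedFunctor.comp f g) = flatMap pA pB f ≫ flatMap pB pC g := by
  apply ObjectProperty.hom_ext
  apply ObjectProperty.hom_ext
  show pshMapOf (BasedFunctor.comp pA.e (BasedFunctor.comp (BasedFunctor.comp f g) pC.e')) =
    pshMapOf (BasedFunctor.comp pA.e (BasedFunctor.comp f pB.e')) ≫
      pshMapOf (BasedFunctor.comp pB.e (BasedFunctor.comp g pC.e'))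
  rw [← pshMapOf_comp]
  apply pshMapOf_eq_of_iso
  let i : BasedFunctor.comp pA.e (BasedFunctor.comp f (BasedFunctor.comp
      (BasedFunctor.comp pB.e' pB.e) (BasedFunctor.comp g pC.e'))) ≅
      BasedFunctor.comp pA.e (BasedFunctor.comp f (BasedFunctor.comp (BasedFunctor.id ℬ)
        (BasedFunctor.comp g pC.e'))) :=
    whiskerL pA.e (whiskerL f (whiskerR pB.ε (BasedFunctor.comp g pC.e')))
  exact i.symm

theorem flatMap_id (pA : Pres 𝒜) : flatMap pA pA (BasedFunctor.id 𝒜) = 𝟙 pA.sp := by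
  apply ObjectProperty.hom_ext
  apply ObjectProperty.hom_ext
  show pshMapOf (BasedFunctor.comp pA.e (BasedFunctor.comp (BasedFunctor.id 𝒜) pA.e')) = 𝟙 _
  rw [← pshMapOf_id]
  exact pshMapOf_eq_of_iso pA.η

/-- `f` is representable by algebraic spaces with `P` iff its underlying morphism of algebraic
spaces has `P` -/
theorem repWith_flatMap_iff (P : MorphismProperty (Sp S)) (hPb : BaseChangeSp P) (hP : OfCharts P)
    (pA : Pres 𝒜) (pB : Pres ℬ) (f : 𝒜 ⥤ᵇ ℬ) :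
    AlgSt.RepByAlgSpWith P f ↔ P (flatMap pA pB f).hom := by
  obtain ⟨α⟩ := iso_ofPshMap_pshMapOf (BasedFunctor.comp pA.e (BasedFunctor.comp f pB.e'))
  have h1 : AlgSt.RepByAlgSpWith P (Stk.ofPshMap (flatMap pA pB f).hom.hom) ↔
      P (flatMap pA pB f).hom :=
    repByAlgSpWith_ofPshMap_iff P hPb hP pA.sp.property pB.sp.property (flatMap pA pB f).hom
  rw [← h1]
  let i1 : BasedFunctor.comp (Stk.ofPshMap (flatMap pA pB f).hom.hom) pB.e ≅
      BasedFunctor.comp (BasedFunctor.comp pA.e (BasedFunctor.comp f pB.e')) pB.e :=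
    whiskerR α.symm pB.e
  let i2 : BasedFunctor.comp (BasedFunctor.comp pA.e (BasedFunctor.comp f pB.e')) pB.e ≅
      BasedFunctor.comp pA.e f :=
    whiskerL pA.e (whiskerL f pB.ε)
  constructor
  · exact repByAlgSpWith_of_square P f _ pA.e pB.e pA.he pB.he (i1 ≪≫ i2)
  · exact repByAlgSpWith_of_square' P f _ pA.e pB.e pA.he pB.he (i1 ≪≫ i2)

/-- **Cancelling a morphism with a section** (Stacks 06NB through a section): if `s ⋙ r ≅ id`
and `r ⋙ h` is flat (locally of finite presentation), so is `h` -/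
theorem repWith_of_section (pA : Pres 𝒜) (pC : Pres 𝒞) (pB : Pres ℬ) (r : 𝒞 ⥤ᵇ 𝒜) (s : 𝒜 ⥤ᵇ 𝒞)
    (hsr : BasedFunctor.comp s r ≅ BasedFunctor.id 𝒜) (h : 𝒜 ⥤ᵇ ℬ) :
    (AlgSt.RepByAlgSpWith (LocP @Flat) (BasedFunctor.comp r h) →
      AlgSt.RepByAlgSpWith (LocP @Flat) h) ∧
    (AlgSt.RepByAlgSpWith (LocP @LocallyOfFinitePresentation) (BasedFunctor.comp r h) →
      AlgSt.RepByAlgSpWith (LocP @LocallyOfFinitePresentation) h) := by
  have hrs : flatMap pA pC s ≫ flatMap pC pA r = 𝟙 pA.sp := by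
    rw [← flatMap_comp, flatMap_iso pA pA hsr, flatMap_id]
  have fac : (flatMap pA pC s).hom.hom ≫ (flatMap pC pA r).hom.hom = 𝟙 _ :=
    congrArg (fun m : pA.sp ⟶ pA.sp => m.hom.hom) hrs
  have hsurj : Sheaf.IsLocallySurjective (flatMap pC pA r).hom :=
    Presheaf.isLocallySurjective_of_isLocallySurjective_fac _ fac
  have key := Groth.Agent.H3.FppfSrc.locP_of_sheaf_surjection (flatMap pC pA r)
    (flatMap pA pB h) hsurj
  rw [← flatMap_comp] at key
  constructor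
  · intro h1
    rw [repWith_flatMap_iff _ good_flat.bc good_flat.toC.charts pA pB]
    exact key.1 ((repWith_flatMap_iff _ good_flat.bc good_flat.toC.charts pC pB _).1 h1)
  · intro h1
    rw [repWith_flatMap_iff _ good_lfp.bc good_lfp.toC.charts pA pB]
    exact key.2.2 ((repWith_flatMap_iff _ good_lfp.bc good_lfp.toC.charts pC pB _).1 h1)

/-- surjectivity cancels on the right -/
theorem repWith_surj_of_comp (pA : Pres 𝒜) (pB : Pres ℬ) (pC : Pres 𝒞) (f : 𝒜 ⥤ᵇ ℬ) (g : ℬ ⥤ᵇ 𝒞)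
    (h : AlgSt.RepByAlgSpWith IsSurjectiveMor (BasedFunctor.comp f g)) :
    AlgSt.RepByAlgSpWith IsSurjectiveMor g := by
  rw [repWith_flatMap_iff _ good_isSurjectiveMor.bc good_isSurjectiveMor.toC.charts pB pC]
  have h1 := (repWith_flatMap_iff _ good_isSurjectiveMor.bc good_isSurjectiveMor.toC.charts
    pA pC _).1 h
  rw [flatMap_comp pA pB pC] at h1
  intro y
  obtain ⟨w, hw⟩ := h1 y
  refine ⟨Points.map (flatMap pA pB f).hom w, ?_⟩
  rw [← hw]
  exact (Points.map_comp _ _ w).symm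

/-- the identity is surjective -/
theorem repWith_surj_id (pA : Pres 𝒜) :
    AlgSt.RepByAlgSpWith IsSurjectiveMor (BasedFunctor.id 𝒜) := by
  rw [repWith_flatMap_iff _ good_isSurjectiveMor.bc good_isSurjectiveMor.toC.charts pA pA,
    flatMap_id]
  intro y
  exact ⟨y, Points.map_id y⟩

end Groth.Agent.H3.GerbSec
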