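import Mathlib
import Groth.Agent.Lib.Helper3.GerbSec.Les
import Groth.Agent.Lib.Helper3.GerbSec.Pres
import Groth.Agent.Lib.Helper3.GerbSec.Chart
import Groth.Agent.Lib.Helper3.AlgSt.SourceLocal
import Groth.Agent.Lib.Helper3.AlgSpCov.Source
import Groth.Agent.Lib.Helper3.AlgSpCov.SourceLocP
import Groth.Agent.Lib.Helper3.SmSrc.FppfSrc
import Groth.Agent.Lib.Helper3.AlgSt.DiagCharts
import Groth.Agent.Lib.Helper3.AlgSt.DiagLft
import Groth.Agent.Lib.Helper3.AlgSt.Points.Homeo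
import Groth.Agent.Lib.Helper3.AlgSt.Points.QuasiCompact

/-!
# A section of a gerbe is flat, locally of finite presentation and surjective (helper3)

Stacks 06QH (3): if `π : 𝒳 ⟶ U` makes the algebraic stack `𝒳` a gerbe over the algebraic space `U`
and `x` is a section of `π`, then `x` is surjective, flat and locally of finite presentation.
-/

set_option autoImplicit false
universe u
open CategoryTheory CategoryTheory.Limits Opposite AlgebraicGeometry

namespace Groth.Agent.H3.GerbSec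

open Groth.Agent.H3.FibCatAux Groth.Agent.H3.GerbAux Groth.Agent.H3.FpCalc Groth.Agent.H3.TwoCart
  Groth.Agent.H3.StackPsh Groth.Agent.H3.PshBridge Groth.Agent.H3.AlgStAux Groth.Agent.H3.RepBridge
  Groth.Agent.H3.SetoidPsh Groth.Agent.H3.BaseChangeSp Groth.Agent.H3.AlgStComp
  Groth.Agent.H3.AlgStProps Groth.Agent.H3.AlgStBridge2 Groth.Agent.H3.AlgStCharts
  Groth.Agent.H3.AlgStDescent Groth.Agent.H3.Whisker Groth.Agent.H3.AlgStLES
  Groth.Agent.H3.AlgSpCov Groth.Agent.H5.AlgSp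
open AlgSp

variable {S : Scheme.{u}}

/-- flatness is fppf local on the source -/
theorem isLocalOnSource_fppf_flat : IsLocalOnSource (IsFppfCover (S := S)) (LocP @Flat) := by
  intro ι X Xi g hX hXi hcov Y f hY
  constructor
  · intro hf i
    exact locP_comp etale_le_flat (hXi i) hX hY (hcov.1 i).1 hf
  · intro hf
    exact locP_of_source_family (P := @Flat) (𝒟 := @Flat) etale_le_flat
      (fun h K Uk d hd hs hc => flat_of_flat_family h Uk d hd hs hc) hX Xi hXi g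
      (fun i => (hcov.1 i).1) hcov.2 f hf

variable {𝒳 : AlgSt.Cat S}

/-- for a section `x` of `π`, the two projections of `𝒰 ×_𝒳 𝒰` are isomorphic -/
noncomputable def fstIsoSnd {𝒰 : AlgSt.Cat S} (x : 𝒰 ⥤ᵇ 𝒳) (π : 𝒳 ⥤ᵇ 𝒰)
    (e : BasedFunctor.comp x π ≅ BasedFunctor.id 𝒰) : FibCat.fpFst x x ≅ FibCat.fpSnd x x :=
  let i1 : FibCat.fpFst x x ≅ BasedFunctor.comp (BasedFunctor.comp (FibCat.fpFst x x) x) π :=
    (whiskerL (FibCat.fpFst x x) e).symm
  let i2 : BasedFunctor.comp (BasedFunctor.comp (FibCat.fpFst x x) x) π ≅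
      BasedFunctor.comp (BasedFunctor.comp (FibCat.fpSnd x x) x) π :=
    whiskerR (FibCat.fpIso x x) π
  let i3 : BasedFunctor.comp (BasedFunctor.comp (FibCat.fpSnd x x) x) π ≅ FibCat.fpSnd x x :=
    whiskerL (FibCat.fpSnd x x) e
  i1 ≪≫ i2 ≪≫ i3

/-- **Stacks 06QH (3)** -/
theorem main (h𝒳 : AlgSt.IsAlgStack Scheme.fppfPrecoverage 𝒳) (U : AlgSp.Space S)
    (π : 𝒳 ⥤ᵇ AlgSt.ofSp U.obj) (hπ : Gerb.IsGerbeOver (QuotSh.J Scheme.fppfPrecoverage S) π)
    (x : AlgSt.ofSp U.obj ⥤ᵇ 𝒳)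
    (e : BasedFunctor.comp x π ≅ BasedFunctor.id (AlgSt.ofSp U.obj)) :
    AlgSt.RepByAlgSpWith (AlgSp.LocP @Flat) x ∧
      AlgSt.RepByAlgSpWith (AlgSp.LocP @LocallyOfFinitePresentation) x ∧
      AlgSt.RepByAlgSpWith AlgSp.IsSurjectiveMor x := by
  have g𝒳 : FibCat.IsFibGrpd 𝒳.p := h𝒳.isStack.1
  have g𝒰 : FibCat.IsFibGrpd (AlgSt.ofSp U.obj).p := Stk.isFibGrpd_ofPsh _
  have hU : AlgSt.RepByAlgSp (AlgSt.ofSp U.obj) := ⟨U, BasedFunctor.id _, isEquivOver_id⟩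
  have hx1 : AlgSt.RepByAlgSp1 x := fun T y =>
    AlgStDiag.repByAlgSp_fp_of_diag g𝒳 h𝒳.diag y x (AlgStDiagLft.repByAlgSp_overCat T) hU
  have hLES : LES x := les_of_section g𝒳 g𝒰 π hπ.2 x e
  obtain ⟨W, a, ha1, ha3⟩ := h𝒳.atlas
  obtain ⟨V, c, z, hc1, hc2, hc3, ⟨ι⟩⟩ := exists_single_chart x hx1 hLES W a
  have gV := isFibGrpd_overCat V
  have gW := isFibGrpd_overCat W
  -- the chart is fppf
  have hã1 : AlgSt.RepByAlgSpWith (LocP @Flat) (BasedFunctor.comp z x) :=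
    repByAlgSpWith_of_iso _ ι.symm (good_flat.toC.repComp gV gW (AlgSt.overMap c) a
      (AlgStPoints.rep_overMap etale_le_flat good_flat c hc1)
      (AlgStDiagLft.repByAlgSpWith_mono (AlgStDiagLft.locP_mono AlgStDiagLft.smooth_le_flat) ha1))
  have hã2 : AlgSt.RepByAlgSpWith (LocP @LocallyOfFinitePresentation) (BasedFunctor.comp z x) :=
    repByAlgSpWith_of_iso _ ι.symm (good_lfp.toC.repComp gV gW (AlgSt.overMap c) a
      (AlgStPoints.rep_overMap etale_le_lfp good_lfp c hc2)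
      (AlgStDiagLft.repByAlgSpWith_mono (AlgStDiagLft.locP_mono AlgStDiagLft.smooth_le_lfp) ha1))
  have hã3 : AlgSt.RepByAlgSpWith IsSurjectiveMor (BasedFunctor.comp z x) :=
    repByAlgSpWith_of_iso _ ι.symm (good_isSurjectiveMor.toC.repComp gV gW (AlgSt.overMap c) a
      (rep_overMap_surj c hc3) ha3)
  -- transport to `𝒫 = 𝒢 ×_𝒰 𝒱`
  have tr1 : ∀ P : MorphismProperty (Sp S), AlgSt.RepByAlgSpWith P (BasedFunctor.comp z x) →
      AlgSt.RepByAlgSpWith P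
        (BasedFunctor.comp (FibCat.fpFst (FibCat.fpSnd x x) z) (FibCat.fpFst x x)) := by
    intro P h
    have h1 : AlgSt.RepByAlgSpWith P (FibCat.fpFst x (BasedFunctor.comp z x)) :=
      repByAlgSpWith_fpFst P (BasedFunctor.comp z x) x h
    have h2 := (repByAlgSpWith_comp_equiv_iff P (pasteR x x z) (isEquivOver_pasteR x x z)
      (FibCat.fpFst x (BasedFunctor.comp z x))).2 h1
    have h3 : BasedFunctor.comp (pasteR x x z) (FibCat.fpFst x (BasedFunctor.comp z x)) =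
        BasedFunctor.comp (FibCat.fpFst (FibCat.fpSnd x x) z) (FibCat.fpFst x x) :=
      basedFunctor_ext rfl
    rwa [h3] at h2
  have tr2 : ∀ P : MorphismProperty (Sp S), AlgSt.RepByAlgSpWith P (BasedFunctor.comp z x) →
      AlgSt.RepByAlgSpWith P
        (BasedFunctor.comp (FibCat.fpSnd (FibCat.fpSnd x x) z) z) := by
    intro P h
    exact repByAlgSpWith_of_iso P
      (whiskerL (FibCat.fpFst (FibCat.fpSnd x x) z) (fstIsoSnd x π e) ≪≫
        FibCat.fpIso (FibCat.fpSnd x x) z) (tr1 P h)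
  -- presentations
  have h𝒢 : AlgSt.RepByAlgSp (FibCat.fp x x) :=
    AlgStDiag.repByAlgSp_fp_of_diag g𝒳 h𝒳.diag x x hU hU
  have h𝒫 : AlgSt.RepByAlgSp (FibCat.fp (FibCat.fpSnd x x) z) :=
    AlgStDiag.repByAlgSp_fp_of_diag g𝒰 (AlgStPoints.isAlgStack_ofSp U).diag (FibCat.fpSnd x x) z
      h𝒢 (AlgStDiagLft.repByAlgSp_overCat V)
  obtain ⟨p𝒢⟩ := exists_pres h𝒢
  obtain ⟨p𝒫⟩ := exists_pres h𝒫
  -- `z` is fppf
  obtain ⟨s, hs⟩ : ∃ s : FibCat.overCat V ⥤ᵇ FibCat.fp (FibCat.fpSnd x x) z,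
      s = FibCat.fpLift (BasedFunctor.comp z (FibCat.diag x)) (BasedFunctor.id _)
        (eqToIso (basedFunctor_ext rfl)) := ⟨_, rfl⟩
  have hsq : BasedFunctor.comp s (FibCat.fpSnd (FibCat.fpSnd x x) z) = BasedFunctor.id _ := by
    rw [hs]; exact basedFunctor_ext rfl
  have hC := repWith_of_section (presOver V) p𝒫 (presOfSp U)
    (FibCat.fpSnd (FibCat.fpSnd x x) z) s (eqToIso hsq) z
  have hz1 : AlgSt.RepByAlgSpWith (LocP @Flat) z := hC.1 (tr2 _ hã1)
  have hz2 : AlgSt.RepByAlgSpWith (LocP @LocallyOfFinitePresentation) z := hC.2 (tr2 _ hã2)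
  have hz3 : AlgSt.RepByAlgSpWith IsSurjectiveMor z :=
    repWith_surj_of_comp p𝒫 (presOver V) (presOfSp U) _ z (tr2 _ hã3)
  -- descend along `q₁`
  have g𝒢 : FibCat.IsFibGrpd (FibCat.fp x x).p := X6401 x x g𝒰 g𝒰 g𝒳
  have g𝒫 : FibCat.IsFibGrpd (FibCat.fp (FibCat.fpSnd x x) z).p := X6401 _ _ g𝒢 gV g𝒰
  have hp1 : AlgSt.RepByAlgSp1 (FibCat.fpFst x x) := repByAlgSp1_fpFst x x hx1
  have hq1 : ∀ P : MorphismProperty (Sp S), AlgSt.RepByAlgSpWith P z →
      AlgSt.RepByAlgSpWith P (FibCat.fpFst (FibCat.fpSnd x x) z) :=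
    fun P h => repByAlgSpWith_fpFst P z (FibCat.fpSnd x x) h
  have hq1Q := AlgStSourceLocal.repByAlgSpWith_and _ _ good_lfp.bc good_lfp.toC.charts
    (FibCat.fpFst (FibCat.fpSnd x x) z) (hq1 _ hz1) (hq1 _ hz2)
  have hp1_fl : AlgSt.RepByAlgSpWith (LocP @Flat) (FibCat.fpFst x x) :=
    AlgStSourceLocal.repByAlgSpWith_of_comp_of_cover g𝒫 g𝒢
      (fun _ _ f => LocP @Flat f ∧ LocP @LocallyOfFinitePresentation f)
      (AlgStSourceLocal.baseChangeSp_and good_flat.bc good_lfp.bc)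
      (AlgStSourceLocal.ofCharts_and good_flat.toC.charts good_lfp.toC.charts)
      (LocP @Flat) good_flat.bc good_flat.toC.charts isLocalOnSource_fppf_flat
      (FibCat.fpFst (FibCat.fpSnd x x) z) (FibCat.fpFst x x) hp1 hq1Q (hq1 _ hz3) (tr1 _ hã1)
  have hp1_lfp : AlgSt.RepByAlgSpWith (LocP @LocallyOfFinitePresentation) (FibCat.fpFst x x) :=
    AlgStSourceLocal.repByAlgSpWith_of_comp_of_cover g𝒫 g𝒢
      (fun _ _ f => LocP @Flat f ∧ LocP @LocallyOfFinitePresentation f)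
      (AlgStSourceLocal.baseChangeSp_and good_flat.bc good_lfp.bc)
      (AlgStSourceLocal.ofCharts_and good_flat.toC.charts good_lfp.toC.charts)
      (LocP @LocallyOfFinitePresentation) good_lfp.bc good_lfp.toC.charts
      (isLocalOnSource_fppf_locP_of S @LocallyOfFinitePresentation)
      (FibCat.fpFst (FibCat.fpSnd x x) z) (FibCat.fpFst x x) hp1 hq1Q (hq1 _ hz3) (tr1 _ hã2)
  have hδ : BasedFunctor.comp (FibCat.diag x) (FibCat.fpFst x x) = BasedFunctor.id _ :=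
    basedFunctor_ext rfl
  have hp1_s : AlgSt.RepByAlgSpWith IsSurjectiveMor (FibCat.fpFst x x) := by
    refine repWith_surj_of_comp (presOfSp U) p𝒢 (presOfSp U) (FibCat.diag x) (FibCat.fpFst x x) ?_
    rw [hδ]
    exact repWith_surj_id (presOfSp U)
  exact ⟨repByAlgSpWith_of_les _ good_flat.bc good_flat.loc x hx1 x hLES hp1_fl,
    repByAlgSpWith_of_les _ good_lfp.bc good_lfp.loc x hx1 x hLES hp1_lfp,
    repByAlgSpWith_of_les _ good_isSurjectiveMor.bc good_isSurjectiveMor.loc x hx1 x hLES hp1_s⟩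

end Groth.Agent.H3.GerbSec
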