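import Mathlib
import Groth.Prelude.Def_StGerb2
import Groth.Agent.Lib.Helper3.GerbSec.Main
import Groth.Agent.Lib.Helper3.GerbIso
import Groth.Agent.Lib.Helper3.GerbBand
import Groth.Agent.Lib.Helper3.StackGlue

/-!
# The automorphism group scheme of a section of a gerbe is flat and locally of finite
presentation (helper3)

Stacks 06QH/06QJ: if `π : 𝒳 ⟶ U` makes the algebraic stack `𝒳` a gerbe over the scheme `U`, `x` is a
section of `π` and the group scheme `G` over `U` represents the automorphisms of `x`, then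
`(Sch/G) ≃ U ×_𝒳 U` and so `G ⟶ U` is a base change of `x`, which is fppf.
-/

set_option autoImplicit false
universe u
open CategoryTheory CategoryTheory.Limits Opposite AlgebraicGeometry

namespace Groth.Agent.H3.GerbSec

open Groth.Agent.H3.FibCatAux Groth.Agent.H3.GerbAux Groth.Agent.H3.FpCalc Groth.Agent.H3.TwoCart
  Groth.Agent.H3.StackPsh Groth.Agent.H3.PshBridge Groth.Agent.H3.AlgStAux Groth.Agent.H3.RepBridge
  Groth.Agent.H3.SetoidPsh Groth.Agent.H3.BaseChangeSp Groth.Agent.H3.AlgStComp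
  Groth.Agent.H3.AlgStProps Groth.Agent.H3.AlgStBridge2 Groth.Agent.H3.AlgStCharts
  Groth.Agent.H3.AlgStDescent Groth.Agent.H3.Whisker Groth.Agent.H3.AlgStLES
  Groth.Agent.H3.AlgSpCov Groth.Agent.H5.AlgSp
open AlgSp

variable {S : Scheme.{u}}

/-- converse of `rep_overMap` -/
theorem of_rep_overMap {P₀ : MorphismProperty Scheme.{u}} [P₀.IsStableUnderBaseChange]
    [P₀.IsStableUnderComposition] [Groth.Agent.H5.EtSrc.IsEtaleLocalSource P₀]
    (hle : (@Etale : MorphismProperty Scheme.{u}) ≤ P₀) (hg : Good (AlgSp.LocP (S := S) P₀))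
    {T U : Over S} (c : T ⟶ U) (h : AlgSt.RepByAlgSpWith (AlgSp.LocP P₀) (AlgSt.overMap c)) :
    P₀ c.left := by
  obtain ⟨ι⟩ := overMapIso c
  have h1 : AlgSt.RepByAlgSpWith (AlgSp.LocP P₀) (Stk.ofPshMap ((AlgSp.yon S).map c).hom) :=
    repByAlgSpWith_of_square _ (AlgSt.overMap c) (Stk.ofPshMap ((AlgSp.yon S).map c).hom)
      (toOver T) (toOver U) (isEquivOver_toOver T) (isEquivOver_toOver U) ι h
  exact (Groth.Agent.H5.AlgSp.locP_yon_map_iff hle c).1
    ((repByAlgSpWith_ofPshMap_iff _ hg.bc hg.toC.charts (AlgSp.IsAlgSpace.yon_obj T)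
      (AlgSp.IsAlgSpace.yon_obj U) ((AlgSp.yon S).map c)).1 h1)

/-- `main` for a scheme base -/
theorem main_over {𝒳 : AlgSt.Cat S} (h𝒳 : AlgSt.IsAlgStack Scheme.fppfPrecoverage 𝒳) (U : Over S)
    (π : 𝒳 ⥤ᵇ FibCat.overCat U) (hπ : Gerb.IsGerbeOver (QuotSh.J Scheme.fppfPrecoverage S) π)
    (x : FibCat.overCat U ⥤ᵇ 𝒳)
    (e : BasedFunctor.comp x π ≅ BasedFunctor.id (FibCat.overCat U)) :
    AlgSt.RepByAlgSpWith (AlgSp.LocP @Flat) x ∧
      AlgSt.RepByAlgSpWith (AlgSp.LocP @LocallyOfFinitePresentation) x ∧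
      AlgSt.RepByAlgSpWith AlgSp.IsSurjectiveMor x := by
  have g𝒳 : FibCat.IsFibGrpd 𝒳.p := h𝒳.isStack.1
  have gU := isFibGrpd_overCat U
  obtain ⟨p, hp⟩ : ∃ p : Pres (FibCat.overCat U), p = presOver U := ⟨_, rfl⟩
  have hπ' : Gerb.IsGerbeOver (QuotSh.J Scheme.fppfPrecoverage S) (BasedFunctor.comp π p.e') :=
    isGerbeOver_comp _ g𝒳 gU π p.e' hπ (isGerbeOver_of_isEquivOver _ gU p.e' p.he')
  have e' : BasedFunctor.comp (BasedFunctor.comp p.e x) (BasedFunctor.comp π p.e') ≅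
      BasedFunctor.id _ :=
    (whiskerL p.e (whiskerR e p.e')) ≪≫ p.η
  have hm := main h𝒳 p.sp (BasedFunctor.comp π p.e') hπ' (BasedFunctor.comp p.e x) e'
  exact ⟨(repByAlgSpWith_comp_equiv_iff _ p.e p.he x).1 hm.1,
    (repByAlgSpWith_comp_equiv_iff _ p.e p.he x).1 hm.2.1,
    (repByAlgSpWith_comp_equiv_iff _ p.e p.he x).1 hm.2.2⟩

section Pts

variable {U : Over S} {G : Over U.left} [GrpObj G]

/-- the scheme morphism underlying a point of `G` -/
def ptMor {a : Over U} (γ : (Gerb.ptsGrp U G).obj (op a)) : a.left.left ⟶ G.left :=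
  CommaMorphism.left (show (Over.iteratedSliceForward U).obj a ⟶ G from γ)

lemma ptMor_w {a : Over U} (γ : (Gerb.ptsGrp U G).obj (op a)) :
    ptMor γ ≫ G.hom = a.hom.left :=
  Over.w (show (Over.iteratedSliceForward U).obj a ⟶ G from γ)

/-- a point from a scheme morphism -/
def mkPt (a : Over U) (τ : a.left.left ⟶ G.left) (hτ : τ ≫ G.hom = a.hom.left) :
    (Gerb.ptsGrp U G).obj (op a) :=
  (Over.homMk τ hτ : (Over.iteratedSliceForward U).obj a ⟶ G)

lemma ptMor_mkPt (a : Over U) (τ : a.left.left ⟶ G.left) (hτ : τ ≫ G.hom = a.hom.left) :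
    ptMor (mkPt a τ hτ) = τ := rfl

lemma ptMor_map {a' a : Over U} (h : a' ⟶ a) (γ : (Gerb.ptsGrp U G).obj (op a)) :
    ptMor ((Gerb.ptsGrp U G).map h.op γ) = h.left.left ≫ ptMor γ := rfl

lemma pt_ext {a : Over U} (γ γ' : (Gerb.ptsGrp U G).obj (op a)) (h : ptMor γ = ptMor γ') :
    γ = γ' :=
  Over.OverMorphism.ext h

end Pts

section Tot

variable (U : Over S) (G : Over U.left)

/-- the total space of `G` over the base -/
abbrev tot : Over S := Over.mk (G.hom ≫ U.hom)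

/-- the structure map of `G` as a morphism over the base -/
abbrev str : tot U G ⟶ U := Over.homMk G.hom rfl

variable [GrpObj G]

/-- the tautological point -/
def tautPt (t : Over (tot U G)) :
    (Gerb.ptsGrp U G).obj (op ((AlgSt.overMap (str U G)).obj t)) :=
  mkPt _ t.hom.left rfl

lemma ptMor_tautPt (t : Over (tot U G)) : ptMor (tautPt U G t) = t.hom.left := rfl

variable {U G}

/-- the object of `(Sch/G)` attached to a point -/
def tObj (a : Over U) (γ : (Gerb.ptsGrp U G).obj (op a)) : Over (tot U G) :=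
  Over.mk (Over.homMk (ptMor γ) (by
    change ptMor γ ≫ G.hom ≫ U.hom = a.left.hom
    rw [← Category.assoc, ptMor_w]; exact Over.w a.hom) : a.left ⟶ tot U G)

/-- its image in `(Sch/U)` is `a` -/
def tObjIso (a : Over U) (γ : (Gerb.ptsGrp U G).obj (op a)) :
    (AlgSt.overMap (str U G)).obj (tObj a γ) ≅ a :=
  Over.isoMk (Iso.refl _) (by
    apply Over.OverMorphism.ext
    change (𝟙 a.left ≫ a.hom).left = ptMor γ ≫ G.hom
    rw [Category.id_comp, ptMor_w])

end Tot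

section Equiv

variable {U : Over S} {G : Over U.left} [GrpObj G] {𝒳 : AlgSt.Cat S}
  (x : FibCat.overCat U ⥤ᵇ 𝒳) (r : Gerb.AutRep x (Gerb.ptsGrp U G))

/-- an automorphism over the identity as an isomorphism -/
def autIso {z : 𝒳.obj} (γ : Gerb.AutO z) : z ≅ z where
  hom := γ.hom.1
  inv := γ.inv.1
  hom_inv_id := congrArg Subtype.val γ.hom_inv_id
  inv_hom_id := congrArg Subtype.val γ.inv_hom_id

lemma autO_ext' {z : 𝒳.obj} (a b : Gerb.AutO z) (h : a.hom.1 = b.hom.1) : a = b := by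
  apply Aut.ext; apply Functor.Fiber.hom_ext; exact h

lemma alpha_natural {t t' : Over (tot U G)} (f : t ⟶ t') :
    x.map ((AlgSt.overMap (str U G)).map f) ≫ (r.iso _ (tautPt U G t')).hom.1 =
      (r.iso _ (tautPt U G t)).hom.1 ≫ x.map ((AlgSt.overMap (str U G)).map f) := by
  have h1 := r.natural ((AlgSt.overMap (str U G)).map f) (tautPt U G t')
  have h2 : (Gerb.ptsGrp U G).map ((AlgSt.overMap (str U G)).map f).op (tautPt U G t') =
      tautPt U G t := by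
    apply pt_ext
    refine (ptMor_map _ _).trans ?_
    exact congrArg CommaMorphism.left (Over.w f)
  have h3 : (r.iso _ ((Gerb.ptsGrp U G).map ((AlgSt.overMap (str U G)).map f).op
      (tautPt U G t'))).hom.1 = (r.iso _ (tautPt U G t)).hom.1 :=
    congrArg (fun γ => (r.iso ((AlgSt.overMap (str U G)).obj t) γ).hom.1) h2
  exact h1.symm.trans (congrArg (fun k => k ≫ x.map ((AlgSt.overMap (str U G)).map f)) h3)

lemma tObj_natural (a : Over U) (γ : (Gerb.ptsGrp U G).obj (op a)) :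
    (r.iso _ (tautPt U G (tObj a γ))).hom.1 ≫ x.map (tObjIso a γ).hom =
      x.map (tObjIso a γ).hom ≫ (r.iso a γ).hom.1 := by
  have h1 := r.natural (tObjIso a γ).hom γ
  have h2 : (Gerb.ptsGrp U G).map (tObjIso a γ).hom.op γ = tautPt U G (tObj a γ) := by
    apply pt_ext
    refine (ptMor_map _ _).trans ?_
    change 𝟙 _ ≫ ptMor γ = ptMor γ
    exact Category.id_comp _
  have h3 : (r.iso _ ((Gerb.ptsGrp U G).map (tObjIso a γ).hom.op γ)).hom.1 =
      (r.iso _ (tautPt U G (tObj a γ))).hom.1 :=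
    congrArg (fun γ' => (r.iso ((AlgSt.overMap (str U G)).obj (tObj a γ)) γ').hom.1) h2
  exact (congrArg (fun k => k ≫ x.map (tObjIso a γ).hom) h3).symm.trans h1

/-- the tautological automorphism of the pullback of `x` to `G` -/
noncomputable def alpha : BasedFunctor.comp (AlgSt.overMap (str U G)) x ≅
    BasedFunctor.comp (AlgSt.overMap (str U G)) x :=
  BasedNatIso.mkNatIso
    (NatIso.ofComponents (fun t => autIso (r.iso _ (tautPt U G t)))
      (fun f => alpha_natural x r f))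
    (fun t => Groth.Agent.H3.StackGlue.isHomLift_id_of_eq _ (r.iso _ (tautPt U G t)).hom.2
      (x.w_obj _))

/-- the comparison `(Sch/G) ⟶ U ×_𝒳 U` -/
noncomputable def autE : FibCat.overCat (tot U G) ⥤ᵇ FibCat.fp x x :=
  FibCat.fpLift (AlgSt.overMap (str U G)) (AlgSt.overMap (str U G)) (alpha x r)

lemma autE_fst : BasedFunctor.comp (autE x r) (FibCat.fpFst x x) = AlgSt.overMap (str U G) :=
  basedFunctor_ext rfl

lemma autE_obj_iso_hom (t : Over (tot U G)) :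
    ((autE x r).obj t).obj.iso.hom = (r.iso _ (tautPt U G t)).hom.1 := rfl

theorem autE_faithful : (autE x r).toFunctor.Faithful := by
  constructor
  intro t t' f f' h
  have h1 : (AlgSt.overMap (str U G)).map f = (AlgSt.overMap (str U G)).map f' :=
    congrArg (fun k => k.hom.fst) h
  have h2 : f.left = f'.left :=
    congrArg (fun k : (AlgSt.overMap (str U G)).obj t ⟶ (AlgSt.overMap (str U G)).obj t' =>
      CommaMorphism.left k) h1
  exact Over.OverMorphism.ext h2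

theorem autE_full (g𝒳 : FibCat.IsFibGrpd 𝒳.p) : (autE x r).toFunctor.Full := by
  constructor
  intro t t' Φ
  obtain ⟨h, hh⟩ : ∃ h : (AlgSt.overMap (str U G)).obj t ⟶ (AlgSt.overMap (str U G)).obj t',
      h = Φ.hom.fst := ⟨_, rfl⟩
  obtain ⟨h', hh'⟩ : ∃ h' : (AlgSt.overMap (str U G)).obj t ⟶ (AlgSt.overMap (str U G)).obj t',
      h' = Φ.hom.snd := ⟨_, rfl⟩
  have hw : x.map h ≫ (r.iso _ (tautPt U G t')).hom.1 =
      (r.iso _ (tautPt U G t)).hom.1 ≫ x.map h' := by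
    rw [hh, hh']; exact Φ.hom.w
  have heq : h' = h := by
    have hs : (FibCat.overCat U).p.IsHomLift ((FibCat.fp x x).p.map Φ) Φ.hom.snd :=
      fp_isHomLift_snd_of _ Φ
    have hf : (FibCat.overCat U).p.IsHomLift ((FibCat.fp x x).p.map Φ) Φ.hom.fst :=
      fp_isHomLift_fst_of _ Φ
    have h2 : (FibCat.overCat U).p.map Φ.hom.snd = (FibCat.overCat U).p.map Φ.hom.fst :=
      (IsHomLift.fac' (FibCat.overCat U).p ((FibCat.fp x x).p.map Φ) Φ.hom.snd).trans
        (IsHomLift.fac' (FibCat.overCat U).p ((FibCat.fp x x).p.map Φ) Φ.hom.fst).symm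
    rw [hh, hh']
    exact Over.OverMorphism.ext h2
  subst heq
  have h1 := r.natural h' (tautPt U G t')
  have h3 : (r.iso _ ((Gerb.ptsGrp U G).map h'.op (tautPt U G t'))).hom.1 ≫ x.map h' =
      (r.iso _ (tautPt U G t)).hom.1 ≫ x.map h' := h1.trans hw
  have h4 := Groth.Agent.H3.StackGlue.cart_cancel g𝒳 (𝒳.p.map (x.map h')) (𝟙 _) (x.map h')
    inferInstance _ _ (r.iso _ ((Gerb.ptsGrp U G).map h'.op (tautPt U G t'))).hom.2
    (r.iso _ (tautPt U G t)).hom.2 h3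
  have h5 : (Gerb.ptsGrp U G).map h'.op (tautPt U G t') = tautPt U G t :=
    (r.iso _).injective (autO_ext' _ _ h4)
  have h6 : h'.left.left ≫ t'.hom.left = t.hom.left := by
    have := congrArg ptMor h5
    exact (ptMor_map h' (tautPt U G t')).symm.trans this
  refine ⟨Over.homMk h'.left (Over.OverMorphism.ext h6), ?_⟩
  apply fp_hom_ext
  · rw [← hh]; exact Over.OverMorphism.ext rfl
  · rw [← hh']; exact Over.OverMorphism.ext rfl

theorem autE_hasPre (g𝒳 : FibCat.IsFibGrpd 𝒳.p) (π : 𝒳 ⥤ᵇ FibCat.overCat U)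
    (e : BasedFunctor.comp x π ≅ BasedFunctor.id (FibCat.overCat U)) (η : (FibCat.fp x x).obj) :
    ∃ (t : (FibCat.overCat (tot U G)).obj) (ε : (autE x r).toFunctor.obj t ≅ η),
      (FibCat.fp x x).p.IsHomLift (𝟙 ((FibCat.fp x x).p.obj η)) ε.hom := by
  obtain ⟨⟨a, b, φ⟩, hη⟩ := η
  have hη' : 𝒳.p.IsHomLift (𝟙 a.left) φ.hom := hη
  have hba : (FibCat.overCat U).p.obj b = a.left :=
    (x.w_obj b).symm.trans (IsHomLift.codomain_eq 𝒳.p (𝟙 a.left) φ.hom)
  obtain ⟨ψ, hψ⟩ : ∃ ψ : a ≅ b,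
      ψ = (appIso e a).symm ≪≫ π.toFunctor.mapIso φ ≪≫ appIso e b := ⟨_, rfl⟩
  have k1 : (FibCat.overCat U).p.IsHomLift (𝟙 a.left) (appIso e a).inv :=
    appIso_inv_isHomLift e a rfl
  have k2 : (FibCat.overCat U).p.IsHomLift (𝟙 a.left) (π.map φ.hom) :=
    π.preserves_isHomLift _ _
  have k3 : (FibCat.overCat U).p.IsHomLift (𝟙 a.left) (appIso e b).hom :=
    appIso_hom_isHomLift e b hba
  have k23 : (FibCat.overCat U).p.IsHomLift (𝟙 a.left) (π.map φ.hom ≫ (appIso e b).hom) :=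
    @IsHomLift.comp_of_lift_id _ _ _ _ _ a.left _ _ _ _ _ k2 k3
  have k4 : (FibCat.overCat U).p.IsHomLift (𝟙 a.left)
      ((appIso e a).inv ≫ π.map φ.hom ≫ (appIso e b).hom) :=
    @IsHomLift.comp_of_lift_id _ _ _ _ _ a.left _ _ _ _ _ k1 k23
  have hψ1 : (FibCat.overCat U).p.IsHomLift (𝟙 a.left) ψ.hom := by rw [hψ]; exact k4
  have hψ2 : (FibCat.overCat U).p.IsHomLift (𝟙 a.left) ψ.inv :=
    @IsHomLift.lift_id_inv _ _ _ _ _ a.left _ _ ψ hψ1
  have hβ : 𝒳.p.IsHomLift (𝟙 (𝒳.p.obj (x.obj a))) (φ.hom ≫ x.map ψ.inv) := by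
    have k6 : 𝒳.p.IsHomLift (𝟙 a.left) (x.map ψ.inv) := x.preserves_isHomLift _ _
    have k7 : 𝒳.p.IsHomLift (𝟙 a.left) (φ.hom ≫ x.map ψ.inv) :=
      @IsHomLift.comp_of_lift_id _ _ _ _ _ a.left _ _ _ _ _ hη' k6
    exact Groth.Agent.H3.StackGlue.isHomLift_id_of_eq _ k7 (x.w_obj a).symm
  obtain ⟨γ₀, hγ₀⟩ : ∃ γ₀ : (Gerb.ptsGrp U G).obj (op a),
      γ₀ = (r.iso a).symm (Groth.Agent.H3.GerbIso.autOfHom g𝒳 (x.obj a) _ hβ) := ⟨_, rfl⟩
  have hγ₀' : (r.iso a γ₀).hom.1 = φ.hom ≫ x.map ψ.inv := by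
    rw [hγ₀, MulEquiv.apply_symm_apply]; rfl
  have e1 : x.map ((tObjIso a γ₀).hom ≫ ψ.hom) = x.map (tObjIso a γ₀).hom ≫ x.map ψ.hom :=
    x.toFunctor.map_comp _ _
  have e2 : x.map ψ.inv ≫ x.map ψ.hom = 𝟙 _ := by
    rw [← x.toFunctor.map_comp, ψ.inv_hom_id, x.toFunctor.map_id]
  have hw : x.map (tObjIso a γ₀).hom ≫ φ.hom =
      (r.iso _ (tautPt U G (tObj a γ₀))).hom.1 ≫ x.map ((tObjIso a γ₀).hom ≫ ψ.hom) := by
    rw [e1, ← Category.assoc, tObj_natural x r a γ₀, hγ₀', Category.assoc, Category.assoc, e2,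
      Category.comp_id]
  refine ⟨tObj a γ₀, fpIsoMk (tObjIso a γ₀) (tObjIso a γ₀ ≪≫ ψ) hw, ?_⟩
  have hl : (FibCat.overCat U).p.IsHomLift (𝟙 a.left) (tObjIso a γ₀).hom :=
    IsHomLift.map (FibCat.overCat U).p (tObjIso a γ₀).hom
  exact (fp_isHomLift_iff x x _ _).2 hl

theorem autE_isEquivOver (g𝒳 : FibCat.IsFibGrpd 𝒳.p) (π : 𝒳 ⥤ᵇ FibCat.overCat U)
    (e : BasedFunctor.comp x π ≅ BasedFunctor.id (FibCat.overCat U)) :
    FibCat.IsEquivOver (autE x r) :=
  (X5139 _).2 ⟨⟨autE_full x r g𝒳, autE_faithful x r⟩, autE_hasPre x r g𝒳 π e⟩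

end Equiv

/-- **Stacks 06QJ**: the automorphism group scheme of a section of a gerbe is flat and locally of
finite presentation -/
theorem flat_lfp_autGrp {𝒳 : AlgSt.Cat S} (h𝒳 : AlgSt.IsAlgStack Scheme.fppfPrecoverage 𝒳)
    (U : Over S) (π : 𝒳 ⥤ᵇ FibCat.overCat U)
    (hπ : Gerb.IsGerbeOver (QuotSh.J Scheme.fppfPrecoverage S) π)
    (x : FibCat.overCat U ⥤ᵇ 𝒳)
    (e : BasedFunctor.comp x π ≅ BasedFunctor.id (FibCat.overCat U))
    (G : Over U.left) [GrpObj G] (r : Gerb.AutRep x (Gerb.ptsGrp U G)) :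
    Flat G.hom ∧ LocallyOfFinitePresentation G.hom := by
  have g𝒳 : FibCat.IsFibGrpd 𝒳.p := h𝒳.isStack.1
  obtain ⟨hx1, hx2, -⟩ := main_over h𝒳 U π hπ x e
  have hE := autE_isEquivOver x r g𝒳 π e
  have tr : ∀ P : MorphismProperty (Sp S), AlgSt.RepByAlgSpWith P x →
      AlgSt.RepByAlgSpWith P (AlgSt.overMap (str U G)) := by
    intro P h
    have h1 : AlgSt.RepByAlgSpWith P (FibCat.fpFst x x) := repByAlgSpWith_fpFst P x x h
    have h2 := (repByAlgSpWith_comp_equiv_iff P (autE x r) hE (FibCat.fpFst x x)).2 h1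
    rwa [autE_fst] at h2
  exact ⟨of_rep_overMap etale_le_flat good_flat (str U G) (tr _ hx1),
    of_rep_overMap etale_le_lfp good_lfp (str U G) (tr _ hx2)⟩

end Groth.Agent.H3.GerbSec
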