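import Mathlib
import Groth.Agent.Lib.Helper3.GerbSec.Main
import Groth.Agent.Lib.Helper3.AlgSt.Algebraic
import Groth.Agent.Lib.Helper3.AlgSt.StackRep
import Groth.Agent.Lib.Helper3.AlgSt.LocQ4
import Groth.Agent.Lib.Helper3.AlgSt.Points.Surj
import Groth.Agent.Lib.Helper3.StackMore
import Groth.Agent.Lib.Helper3.SmSrc.LocP

/-!
# The comparison `T₁ ×_𝒳 T₂ ⟶ T₁ ×_𝒴 T₂` for a gerbe `𝒳 ⟶ 𝒴` (helper3)

It is a base change of the section `T₁ ⟶ T₁ ×_𝒴 𝒳` of the base-changed gerbe, hence surjective,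
flat and locally of finite presentation (Stacks 06QH).
-/

set_option autoImplicit false
universe u
open CategoryTheory CategoryTheory.Limits Opposite AlgebraicGeometry

namespace Groth.Agent.H3.GerbSec

open Groth.Agent.H3.FibCatAux Groth.Agent.H3.GerbAux Groth.Agent.H3.FpCalc Groth.Agent.H3.TwoCart
  Groth.Agent.H3.StackPsh Groth.Agent.H3.PshBridge Groth.Agent.H3.AlgStAux Groth.Agent.H3.RepBridge
  Groth.Agent.H3.SetoidPsh Groth.Agent.H3.BaseChangeSp Groth.Agent.H3.AlgStComp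
  Groth.Agent.H3.AlgStProps Groth.Agent.H3.AlgStBridge2 Groth.Agent.H3.AlgStCharts
  Groth.Agent.H3.AlgStDescent Groth.Agent.H3.Whisker Groth.Agent.H3.AlgStLES
  Groth.Agent.H3.AlgSpCov Groth.Agent.H5.AlgSp Groth.Agent.H3.StkAux
open AlgSp

variable {S : Scheme.{u}} {𝒳 𝒴 : AlgSt.Cat S}

section Defs

variable (f : 𝒳 ⥤ᵇ 𝒴) {T₁ T₂ : AlgSp.Space S} (x₁ : AlgSt.ofSp T₁.obj ⥤ᵇ 𝒳)
  (x₂ : AlgSt.ofSp T₂.obj ⥤ᵇ 𝒳)

/-- the tautological section of the base change `T₁ ×_𝒴 𝒳 ⟶ T₁` -/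
def secOne : AlgSt.ofSp T₁.obj ⥤ᵇ FibCat.fp (BasedFunctor.comp x₁ f) f :=
  FibCat.fpLift (BasedFunctor.id _) x₁ (Iso.refl (BasedFunctor.comp x₁ f))

lemma secOne_obj_iso_hom (t : (AlgSt.ofSp T₁.obj).obj) :
    ((secOne f x₁).obj t).obj.iso.hom = 𝟙 (f.obj (x₁.obj t)) := rfl

/-- `(T₁ ×_𝒴 𝒳) ×_𝒳 T₂ ⟶ T₁ ×_𝒴 𝒳` -/
abbrev rhoOne : FibCat.fp (FibCat.fpSnd (BasedFunctor.comp x₁ f) f) x₂ ⥤ᵇ
    FibCat.fp (BasedFunctor.comp x₁ f) f :=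
  FibCat.fpFst (FibCat.fpSnd (BasedFunctor.comp x₁ f) f) x₂

/-- `T₁ ×_{T₁ ×_𝒴 𝒳} ((T₁ ×_𝒴 𝒳) ×_𝒳 T₂) ⟶ T₁ ×_𝒳 T₂` -/
def aFun : FibCat.fp (secOne f x₁) (rhoOne f x₁ x₂) ⥤ᵇ FibCat.fp x₁ x₂ :=
  BasedFunctor.comp (pasteL (secOne f x₁) (FibCat.fpSnd (BasedFunctor.comp x₁ f) f) x₂)
    (fpMap (F' := BasedFunctor.comp (secOne f x₁) (FibCat.fpSnd (BasedFunctor.comp x₁ f) f))
      (G' := x₂) (F := x₁) (G := x₂) (BasedFunctor.id _) (BasedFunctor.id _) (BasedFunctor.id 𝒳)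
      (Iso.refl _) (idSq x₂))

theorem isEquivOver_aFun : FibCat.IsEquivOver (aFun f x₁ x₂) := by
  have : (BasedFunctor.id 𝒳).toFunctor.Full := Functor.Full.id
  have : (BasedFunctor.id 𝒳).toFunctor.Faithful := Functor.Faithful.id
  exact isEquivOver_comp _ _ (isEquivOver_pasteL _ _ _)
    (isEquivOver_fpMap _ _ _ _ _ isEquivOver_id isEquivOver_id)

lemma aFun_obj_iso_hom (X : (FibCat.fp (secOne f x₁) (rhoOne f x₁ x₂)).obj) :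
    ((aFun f x₁ x₂).obj X).obj.iso.hom =
      𝟙 _ ≫ (X.obj.iso.hom.hom.snd ≫ X.obj.snd.obj.iso.hom) ≫ 𝟙 _ := rfl

/-- `(T₁ ×_𝒴 𝒳) ×_𝒳 T₂ ⟶ T₁ ×_𝒴 T₂` -/
abbrev bFun : FibCat.fp (FibCat.fpSnd (BasedFunctor.comp x₁ f) f) x₂ ⥤ᵇ
    FibCat.fp (BasedFunctor.comp x₁ f) (BasedFunctor.comp x₂ f) :=
  pasteR (BasedFunctor.comp x₁ f) f x₂

variable (e : BasedFunctor.comp (FibCat.fpFst x₁ x₂) (BasedFunctor.comp x₁ f) ≅
    BasedFunctor.comp (FibCat.fpSnd x₁ x₂) (BasedFunctor.comp x₂ f))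
  (he : ∀ a, e.hom.toNatTrans.app a = f.map a.obj.iso.hom)

include he in
lemma pointwise (X : (FibCat.fp (secOne f x₁) (rhoOne f x₁ x₂)).obj) :
    ∃ i : (BasedFunctor.comp (aFun f x₁ x₂)
        (FibCat.fpLift (FibCat.fpFst x₁ x₂) (FibCat.fpSnd x₁ x₂) e)).obj X ≅
        (BasedFunctor.comp (FibCat.fpSnd (secOne f x₁) (rhoOne f x₁ x₂)) (bFun f x₁ x₂)).obj X,
      (FibCat.fp (BasedFunctor.comp x₁ f) (BasedFunctor.comp x₂ f)).p.IsHomLift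
        (𝟙 ((FibCat.fp (secOne f x₁) (rhoOne f x₁ x₂)).p.obj X)) i.hom := by
  have hw : (BasedFunctor.comp x₁ f).map X.obj.iso.hom.hom.fst ≫ X.obj.snd.obj.fst.obj.iso.hom =
      f.map X.obj.iso.hom.hom.snd := by
    have h0 := X.obj.iso.hom.hom.w
    exact h0.trans (Category.id_comp _)
  have h2 : (BasedFunctor.comp x₁ f).map X.obj.iso.hom.hom.fst ≫
      (X.obj.snd.obj.fst.obj.iso.hom ≫ f.map X.obj.snd.obj.iso.hom) =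
      f.map (X.obj.iso.hom.hom.snd ≫ X.obj.snd.obj.iso.hom) := by
    rw [← Category.assoc, hw]
    exact (f.toFunctor.map_comp _ _).symm
  let i₁ : X.obj.fst ≅ X.obj.snd.obj.fst.obj.fst :=
    (FibCat.fpFst (BasedFunctor.comp x₁ f) f).toFunctor.mapIso X.obj.iso
  refine ⟨fpIsoMk i₁ (Iso.refl _) ?_, ?_⟩
  · show (BasedFunctor.comp x₁ f).map X.obj.iso.hom.hom.fst ≫
        (X.obj.snd.obj.fst.obj.iso.hom ≫ f.map X.obj.snd.obj.iso.hom) =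
      e.hom.toNatTrans.app ((aFun f x₁ x₂).obj X) ≫ (BasedFunctor.comp x₂ f).map (𝟙 _)
    have h3 : ((aFun f x₁ x₂).obj X).obj.iso.hom =
        X.obj.iso.hom.hom.snd ≫ X.obj.snd.obj.iso.hom := by
      rw [aFun_obj_iso_hom]
      exact (Category.id_comp _).trans (Category.comp_id _)
    have h4 : (BasedFunctor.comp x₂ f).map
        (𝟙 ((FibCat.fpSnd x₁ x₂).obj ((aFun f x₁ x₂).obj X))) = 𝟙 _ :=
      (BasedFunctor.comp x₂ f).toFunctor.map_id _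
    rw [he, h2, h3, h4]
    exact (Category.comp_id _).symm
  · rw [fp_isHomLift_iff]
    show (AlgSt.ofSp T₁.obj).p.IsHomLift (𝟙 _) X.obj.iso.hom.hom.fst
    exact (fp_isHomLift_iff _ _ _ X.obj.iso.hom).1 X.property

end Defs

/-- **Stacks 06QH for the comparison**, representable form -/
theorem rep_compare (h𝒳 : AlgSt.IsAlgStack Scheme.fppfPrecoverage 𝒳)
    (h𝒴 : AlgSt.IsAlgStack Scheme.fppfPrecoverage 𝒴) (f : 𝒳 ⥤ᵇ 𝒴)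
    (hf : Gerb.IsGerbeOver (QuotSh.J Scheme.fppfPrecoverage S) f) (T₁ T₂ : AlgSp.Space S)
    (x₁ : AlgSt.ofSp T₁.obj ⥤ᵇ 𝒳) (x₂ : AlgSt.ofSp T₂.obj ⥤ᵇ 𝒳)
    (e : BasedFunctor.comp (FibCat.fpFst x₁ x₂) (BasedFunctor.comp x₁ f) ≅
      BasedFunctor.comp (FibCat.fpSnd x₁ x₂) (BasedFunctor.comp x₂ f))
    (he : ∀ a, e.hom.toNatTrans.app a = f.map a.obj.iso.hom) :
    AlgSt.RepByAlgSpWith (LocP @Flat)
        (FibCat.fpLift (FibCat.fpFst x₁ x₂) (FibCat.fpSnd x₁ x₂) e) ∧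
      AlgSt.RepByAlgSpWith (LocP @LocallyOfFinitePresentation)
        (FibCat.fpLift (FibCat.fpFst x₁ x₂) (FibCat.fpSnd x₁ x₂) e) ∧
      AlgSt.RepByAlgSpWith IsSurjectiveMor
        (FibCat.fpLift (FibCat.fpFst x₁ x₂) (FibCat.fpSnd x₁ x₂) e) := by
  have g𝒯₁ : FibCat.IsFibGrpd (AlgSt.ofSp T₁.obj).p := Stk.isFibGrpd_ofPsh _
  have h𝒳₁ : AlgSt.IsAlgStack Scheme.fppfPrecoverage (FibCat.fp (BasedFunctor.comp x₁ f) f) :=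
    AlgStAlgebraic.isAlgStack_fp h𝒴.isStack h𝒴.diag (AlgStPoints.isAlgStack_ofSp T₁) h𝒳
      (BasedFunctor.comp x₁ f) f
  have hπ₁ : Gerb.IsGerbeOver (QuotSh.J Scheme.fppfPrecoverage S)
      (FibCat.fpFst (BasedFunctor.comp x₁ f) f) :=
    isGerbeOver_fpFst _ g𝒯₁ h𝒴.isStack.1 (BasedFunctor.comp x₁ f) f hf
  have hσπ : BasedFunctor.comp (secOne f x₁) (FibCat.fpFst (BasedFunctor.comp x₁ f) f) =
      BasedFunctor.id _ := basedFunctor_ext rfl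
  obtain ⟨hσ1, hσ2, hσ3⟩ := main h𝒳₁ T₁ (FibCat.fpFst (BasedFunctor.comp x₁ f) f) hπ₁
    (secOne f x₁) (eqToIso hσπ)
  have hset : FibCat.IsFibSetoid
      (FibCat.fp (BasedFunctor.comp x₁ f) (BasedFunctor.comp x₂ f)).p :=
    StackMore.isFibSetoid_fp _ _ (isFibSetoid_ofPsh _) (isFibSetoid_ofPsh _) h𝒴.isStack.1
  obtain ⟨ε⟩ := iso_of_fiberwise_iso hset
    (BasedFunctor.comp (aFun f x₁ x₂) (FibCat.fpLift (FibCat.fpFst x₁ x₂) (FibCat.fpSnd x₁ x₂) e))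
    (BasedFunctor.comp (FibCat.fpSnd (secOne f x₁) (rhoOne f x₁ x₂)) (bFun f x₁ x₂))
    (fun X => pointwise f x₁ x₂ e he X)
  have key : ∀ P : MorphismProperty (Sp S), AlgSt.RepByAlgSpWith P (secOne f x₁) →
      AlgSt.RepByAlgSpWith P (FibCat.fpLift (FibCat.fpFst x₁ x₂) (FibCat.fpSnd x₁ x₂) e) :=
    fun P h => repByAlgSpWith_of_square' P
      (FibCat.fpLift (FibCat.fpFst x₁ x₂) (FibCat.fpSnd x₁ x₂) e)
      (FibCat.fpSnd (secOne f x₁) (rhoOne f x₁ x₂)) (aFun f x₁ x₂) (bFun f x₁ x₂)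
      (isEquivOver_aFun f x₁ x₂) (isEquivOver_pasteR _ _ _) ε.symm
      (AlgStStackRep.repByAlgSpWith_fpSnd P (secOne f x₁) (rhoOne f x₁ x₂) h)
  exact ⟨key _ hσ1, key _ hσ2, key _ hσ3⟩

/-- **S16863** -/
theorem compare (h𝒳 : AlgSt.IsAlgStack Scheme.fppfPrecoverage 𝒳)
    (h𝒴 : AlgSt.IsAlgStack Scheme.fppfPrecoverage 𝒴) (f : 𝒳 ⥤ᵇ 𝒴)
    (hf : Gerb.IsGerbeOver (QuotSh.J Scheme.fppfPrecoverage S) f) (T₁ T₂ : AlgSp.Space S)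
    (x₁ : AlgSt.ofSp T₁.obj ⥤ᵇ 𝒳) (x₂ : AlgSt.ofSp T₂.obj ⥤ᵇ 𝒳)
    (e : BasedFunctor.comp (FibCat.fpFst x₁ x₂) (BasedFunctor.comp x₁ f) ≅
      BasedFunctor.comp (FibCat.fpSnd x₁ x₂) (BasedFunctor.comp x₂ f))
    (he : ∀ a, e.hom.toNatTrans.app a = f.map a.obj.iso.hom) :
    AlgSt.IsSurjective (FibCat.fpLift (FibCat.fpFst x₁ x₂) (FibCat.fpSnd x₁ x₂) e) ∧
      AlgSt.LocQ (AlgSp.LocP @Flat) (FibCat.fpLift (FibCat.fpFst x₁ x₂) (FibCat.fpSnd x₁ x₂) e) ∧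
      AlgSt.LocQ (AlgSp.LocP @LocallyOfFinitePresentation)
        (FibCat.fpLift (FibCat.fpFst x₁ x₂) (FibCat.fpSnd x₁ x₂) e) := by
  obtain ⟨h1, h2, h3⟩ := rep_compare h𝒳 h𝒴 f hf T₁ T₂ x₁ x₂ e he
  have hZ : AlgSt.IsAlgStack Scheme.fppfPrecoverage
      (FibCat.fp (BasedFunctor.comp x₁ f) (BasedFunctor.comp x₂ f)) :=
    AlgStAlgebraic.isAlgStack_fp h𝒴.isStack h𝒴.diag (AlgStPoints.isAlgStack_ofSp T₁)
      (AlgStPoints.isAlgStack_ofSp T₂) _ _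
  exact ⟨AlgStPoints.isSurjective_of_rep hZ.isStack.1 _ h3,
    AlgStLocQ.locQ_of_rep SmSrc.isSmoothLocalST_flat hZ _ h1,
    AlgStLocQ.locQ_of_rep SmSrc.isSmoothLocalST_lfp hZ _ h2⟩

end Groth.Agent.H3.GerbSec
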