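import Mathlib
import Groth.Agent.Lib.Helper3.GerbSec.Compare
import Groth.Agent.Lib.Helper3.AlgSt.DiagCover
import Groth.Agent.Lib.Helper3.AlgSt.Inertia

/-!
# The diagonal and the relative inertia of a gerbe (helper3)

If `f : 𝒳 ⟶ 𝒴` makes `𝒳` a gerbe over `𝒴` (algebraic stacks), then the diagonal of `f` is
surjective, flat and locally of finite presentation, and so is the relative inertia over `𝒳`.
-/

set_option autoImplicit false
universe u
open CategoryTheory CategoryTheory.Limits Opposite AlgebraicGeometry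

namespace Groth.Agent.H3.GerbSec

open Groth.Agent.H3.FibCatAux Groth.Agent.H3.GerbAux Groth.Agent.H3.FpCalc Groth.Agent.H3.TwoCart
  Groth.Agent.H3.StackPsh Groth.Agent.H3.PshBridge Groth.Agent.H3.AlgStAux Groth.Agent.H3.RepBridge
  Groth.Agent.H3.SetoidPsh Groth.Agent.H3.BaseChangeSp Groth.Agent.H3.AlgStComp
  Groth.Agent.H3.AlgStProps Groth.Agent.H3.AlgStBridge2 Groth.Agent.H3.AlgStCharts
  Groth.Agent.H3.AlgStDescent Groth.Agent.H3.Whisker Groth.Agent.H3.AlgStLES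
  Groth.Agent.H3.AlgSpCov Groth.Agent.H5.AlgSp Groth.Agent.H3.StkAux Groth.Agent.H3.AlgStProdMap
open AlgSp

variable {S : Scheme.{u}} {𝒳 𝒴 : AlgSt.Cat S}

/-- the diagonal of a gerbe is flat, locally of finite presentation and surjective -/
theorem rep_diag (h𝒳 : AlgSt.IsAlgStack Scheme.fppfPrecoverage 𝒳)
    (h𝒴 : AlgSt.IsAlgStack Scheme.fppfPrecoverage 𝒴) (f : 𝒳 ⥤ᵇ 𝒴)
    (hf : Gerb.IsGerbeOver (QuotSh.J Scheme.fppfPrecoverage S) f) :
    AlgSt.RepByAlgSpWith (LocP @Flat) (FibCat.diag f) ∧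
      AlgSt.RepByAlgSpWith (LocP @LocallyOfFinitePresentation) (FibCat.diag f) ∧
      AlgSt.RepByAlgSpWith IsSurjectiveMor (FibCat.diag f) := by
  have g𝒳 := h𝒳.isStack.1
  have g𝒴 := h𝒴.isStack.1
  obtain ⟨W, a, ha1, ha3⟩ := h𝒳.atlas
  obtain ⟨Wsp, hWsp⟩ : ∃ Wsp : Space S, Wsp = ⟨(yon S).obj W, IsAlgSpace.yon_obj W⟩ := ⟨_, rfl⟩
  subst hWsp
  obtain ⟨w, hw⟩ : ∃ w : AlgSt.ofSp ((yon S).obj W) ⥤ᵇ 𝒳, w = BasedFunctor.comp (toOver W) a :=
    ⟨_, rfl⟩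
  have hwP : ∀ P : MorphismProperty (Sp S), AlgSt.RepByAlgSpWith P a →
      AlgSt.RepByAlgSpWith P w := fun P h => by
    rw [hw]
    exact (repByAlgSpWith_comp_equiv_iff P (toOver W) (isEquivOver_toOver W) a).2 h
  have hw1 := hwP _ (AlgStDiagLft.repByAlgSpWith_mono
    (AlgStDiagLft.locP_mono AlgStDiagLft.smooth_le_flat) ha1)
  have hw2 := hwP _ (AlgStDiagLft.repByAlgSpWith_mono
    (AlgStDiagLft.locP_mono AlgStDiagLft.smooth_le_lfp) ha1)
  have hw3 := hwP _ ha3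
  have g𝒲 : FibCat.IsFibGrpd (AlgSt.ofSp ((yon S).obj W)).p := Stk.isFibGrpd_ofPsh _
  have hR1 : AlgSt.RepByAlgSpWith (LocP @Flat) (magicR w w f) :=
    repByAlgSpWith_prodMap _ good_flat g𝒲 g𝒲 g𝒳 g𝒴 w w f f hw1 hw1
  have hR2 : AlgSt.RepByAlgSpWith (LocP @LocallyOfFinitePresentation) (magicR w w f) :=
    repByAlgSpWith_prodMap _ good_lfp g𝒲 g𝒲 g𝒳 g𝒴 w w f f hw2 hw2
  have hR3 : AlgSt.RepByAlgSpWith IsSurjectiveMor (magicR w w f) :=
    repByAlgSpWith_prodMap _ good_isSurjectiveMor g𝒲 g𝒲 g𝒳 g𝒴 w w f f hw3 hw3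
  have hLES : LES (magicR w w f) := les_of_fppf _ hR1 hR2 hR3
  have hΔ : AlgSt.RepByAlgSp1 (FibCat.diag f) :=
    AlgStDiagLft.repByAlgSp1_diag_of_algStack h𝒳 h𝒴 f
  obtain ⟨hI1, hI2, hI3⟩ := rep_compare h𝒳 h𝒴 f hf ⟨(yon S).obj W, IsAlgSpace.yon_obj W⟩
    ⟨(yon S).obj W, IsAlgSpace.yon_obj W⟩ w w (magicIso w w f) (fun Z => magicIso_app w w f Z)
  have key : ∀ P : MorphismProperty (Sp S), Good P →
      AlgSt.RepByAlgSpWith P (magicI w w f (magicIso w w f)) →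
      AlgSt.RepByAlgSpWith P (FibCat.diag f) := by
    intro P hP hI
    refine repByAlgSpWith_descent _ hP.bc hP.loc (FibCat.diag f) hΔ (magicR w w f) hLES ?_
    let ε : BasedFunctor.comp (magicI w w f (magicIso w w f)) (BasedFunctor.id _) ≅
        BasedFunctor.comp
          (FibCat.fpLift (magicI w w f (magicIso w w f)) (magicL w w)
            (magicE w w f (magicIso w w f) (fun Z => magicIso_app w w f Z)))
          (FibCat.fpFst (magicR w w f) (FibCat.diag f)) := Iso.refl _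
    exact repByAlgSpWith_of_square' _ _ _ _ (BasedFunctor.id _)
      (magic_isTwoCartOver w w f (magicIso w w f) (fun Z => magicIso_app w w f Z))
      isEquivOver_id ε hI
  exact ⟨key _ good_flat hI1, key _ good_lfp hI2, key _ good_isSurjectiveMor hI3⟩

/-- **S16862** -/
theorem locQ_inertia (h𝒳 : AlgSt.IsAlgStack Scheme.fppfPrecoverage 𝒳)
    (h𝒴 : AlgSt.IsAlgStack Scheme.fppfPrecoverage 𝒴) (f : 𝒳 ⥤ᵇ 𝒴)
    (hf : Gerb.IsGerbeOver (QuotSh.J Scheme.fppfPrecoverage S) f) :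
    AlgSt.LocQ (AlgSp.LocP @Flat) (FibCat.inertiaToBase f) ∧
      AlgSt.LocQ (AlgSp.LocP @LocallyOfFinitePresentation) (FibCat.inertiaToBase f) := by
  obtain ⟨h1, h2, -⟩ := rep_diag h𝒳 h𝒴 f hf
  exact ⟨AlgStLocQ.locQ_of_rep SmSrc.isSmoothLocalST_flat h𝒳 _
      (AlgStInertia.repByAlgSpWith_inertiaToBase_of_diag f _ h1),
    AlgStLocQ.locQ_of_rep SmSrc.isSmoothLocalST_lfp h𝒳 _
      (AlgStInertia.repByAlgSpWith_inertiaToBase_of_diag f _ h2)⟩

end Groth.Agent.H3.GerbSec
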