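import Mathlib
import Groth.Agent.Lib.Helper3.GerbSec.AutGrp
import Groth.Agent.Lib.Helper3.GerbSec.Diag
import Groth.Agent.Lib.Helper3.AlgSt.LocQ6
import Groth.Agent.Lib.Helper3.AlgSt.LocQ8
import Groth.Agent.Lib.Helper3.AlgSt.LocQ9
import Groth.Agent.Lib.Helper3.AlgSt.LocQ13
import Groth.Agent.Lib.Helper3.AlgSt.QCMor
import Groth.Agent.Lib.Helper3.AlgSpCov.SmoothST
import Groth.Agent.Lib.Helper3.FFPostcomp
import Groth.Agent.H4.GrbA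

/-!
# Gerbes: the fppf criterion (helper3)

Stacks 06QI/0CPR: a morphism `f : 𝒳 ⟶ 𝒴` of algebraic stacks makes `𝒳` a gerbe over `𝒴` iff `f`
and its diagonal are surjective, flat and locally of finite presentation.
-/

set_option autoImplicit false
universe u
open CategoryTheory CategoryTheory.Limits Opposite AlgebraicGeometry

namespace Groth.Agent.H3.GerbSec

open Groth.Agent.H3.FibCatAux Groth.Agent.H3.GerbAux Groth.Agent.H3.FpCalc Groth.Agent.H3.TwoCart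
  Groth.Agent.H3.StackPsh Groth.Agent.H3.PshBridge Groth.Agent.H3.AlgStAux Groth.Agent.H3.RepBridge
  Groth.Agent.H3.SetoidPsh Groth.Agent.H3.BaseChangeSp Groth.Agent.H3.AlgStComp
  Groth.Agent.H3.AlgStProps Groth.Agent.H3.AlgStBridge2 Groth.Agent.H3.AlgStCharts
  Groth.Agent.H3.AlgStDescent Groth.Agent.H3.Whisker Groth.Agent.H3.AlgStLES
  Groth.Agent.H3.AlgSpCov Groth.Agent.H5.AlgSp Groth.Agent.H3.StkAux
open AlgSp

variable {S : Scheme.{u}} {𝒳 𝒴 𝒲 : AlgSt.Cat S}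

/-- locally essentially surjective functors compose -/
theorem les_comp (g : 𝒲 ⥤ᵇ 𝒳) (f : 𝒳 ⥤ᵇ 𝒴) (hg : LES g) (hf : LES f) :
    LES (BasedFunctor.comp g f) := by
  intro T y
  obtain ⟨R, hR, h1⟩ := hf T y
  have h2 : ∀ ⦃V : Over S⦄ (c : V ⟶ T), R.arrows c → ∃ Rc ∈ J S V,
      ∀ ⦃W : Over S⦄ (d : W ⟶ V), Rc.arrows d → ∃ z : FibCat.overCat W ⥤ᵇ 𝒲,
        Nonempty (BasedFunctor.comp z (BasedFunctor.comp g f) ≅
          BasedFunctor.comp (AlgSt.overMap (d ≫ c)) y) := by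
    intro V c hc
    obtain ⟨ξ, ⟨ι⟩⟩ := h1 c hc
    obtain ⟨Rc, hRc, h3⟩ := hg V ξ
    refine ⟨Rc, hRc, fun W d hd => ?_⟩
    obtain ⟨z, ⟨κ⟩⟩ := h3 d hd
    obtain ⟨μ⟩ := overMapComp d c
    refine ⟨z, ⟨?_⟩⟩
    have i1 : BasedFunctor.comp z (BasedFunctor.comp g f) ≅
        BasedFunctor.comp (AlgSt.overMap d) (BasedFunctor.comp ξ f) := whiskerR κ f
    have i2 : BasedFunctor.comp (AlgSt.overMap d) (BasedFunctor.comp ξ f) ≅
        BasedFunctor.comp (BasedFunctor.comp (AlgSt.overMap d) (AlgSt.overMap c)) y :=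
      whiskerL (AlgSt.overMap d) ι
    exact i1 ≪≫ i2 ≪≫ whiskerR μ y
  choose Rc hRc h3 using h2
  refine ⟨Sieve.bind R.arrows (fun V c hc => Rc c hc),
    (J S).bind_covering hR (fun V c hc => hRc c hc), ?_⟩
  rintro W k ⟨V, d, c, hc, hd, rfl⟩
  exact h3 c hc d hd

/-- a functor hitting every object locally is locally essentially surjective -/
theorem les_of_locSurjObj (h𝒳 : FibCat.IsFibGrpd 𝒳.p) (h𝒴 : FibCat.IsFibGrpd 𝒴.p) (f : 𝒳 ⥤ᵇ 𝒴)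
    (hf : Gerb.LocSurjObj (AlgSp.J S) f) : LES f := by
  intro T y
  have hf' := (locSurjObj_iff (AlgSp.J S) f).1 hf
  obtain ⟨R, hR, h3⟩ := hf' T (y.obj (Over.mk (𝟙 T))) (y.w_obj _)
  refine ⟨R, hR, fun V h hRh => ?_⟩
  obtain ⟨x₀, g, hg⟩ := h3 h hRh
  have hx₀ : 𝒳.p.obj x₀ = V := (f.w_obj x₀).symm.trans (IsHomLift.domain_eq 𝒴.p h g)
  exact Groth.Agent.H4.GrbA.exists_iso_of_hom h𝒳 h𝒴 f h y x₀ hx₀ g hg

lemma exists_over_hom {U V : Over S} (c : V ⟶ U) :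
    ∃ m : (AlgSt.overMap c).obj (Over.mk (𝟙 V)) ⟶ Over.mk (𝟙 U),
      (FibCat.overCat U).p.IsHomLift c m := by
  have hw : c ≫ (Over.mk (𝟙 U)).hom = ((AlgSt.overMap c).obj (Over.mk (𝟙 V))).hom := by
    change c ≫ 𝟙 _ = 𝟙 _ ≫ c
    rw [Category.comp_id, Category.id_comp]
  refine ⟨Over.homMk c hw, ?_⟩
  exact IsHomLift.map (FibCat.overCat U).p
    (Over.homMk c hw : (AlgSt.overMap c).obj (Over.mk (𝟙 V)) ⟶ Over.mk (𝟙 U))

/-- a locally essentially surjective functor hits every object locally -/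
theorem locSurjObj_of_les (g𝒴 : FibCat.IsFibGrpd 𝒴.p) (f : 𝒳 ⥤ᵇ 𝒴) (hL : LES f) :
    Gerb.LocSurjObj (AlgSp.J S) f := by
  intro y
  obtain ⟨ŷ, i, j, hi, hj, -, -⟩ := Groth.Agent.H3.FFPostcomp.exists_rep g𝒴 y rfl
  obtain ⟨R, hR, h1⟩ := hL (𝒴.p.obj y) ŷ
  refine ⟨R, hR, fun V c hc => ?_⟩
  obtain ⟨ξ, ⟨ι⟩⟩ := h1 c hc
  obtain ⟨m, hml⟩ := exists_over_hom c
  have h1' : 𝒴.p.IsHomLift (𝟙 V) (appIso ι (Over.mk (𝟙 V))).hom :=
    appIso_hom_isHomLift ι _ rfl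
  have h2 : 𝒴.p.IsHomLift c (ŷ.map m) := by
    haveI := hml
    exact BasedFunctor.preserves_isHomLift ŷ c m
  have h23 : 𝒴.p.IsHomLift c (ŷ.map m ≫ i) :=
    @IsHomLift.comp_lift_id_right _ _ _ _ _ _ _ _ _ _ c (ŷ.map m) h2 i hi
  have h123 : 𝒴.p.IsHomLift c ((appIso ι (Over.mk (𝟙 V))).hom ≫ ŷ.map m ≫ i) :=
    @IsHomLift.comp_lift_id_left _ _ _ _ _ _ _ _ _ _ c (ŷ.map m ≫ i) h23 _ h1'
  exact ⟨ξ.obj (Over.mk (𝟙 V)), (appIso ι (Over.mk (𝟙 V))).hom ≫ ŷ.map m ≫ i, h123⟩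

/-- if the diagonal hits every object locally then morphisms between images lift locally -/
theorem locSurjHom_of_locSurjObj_diag (g𝒴 : FibCat.IsFibGrpd 𝒴.p) (f : 𝒳 ⥤ᵇ 𝒴)
    (h : Gerb.LocSurjObj (AlgSp.J S) (FibCat.diag f)) : Gerb.LocSurjHom (AlgSp.J S) f := by
  intro x x' b hb
  haveI := hb
  haveI hbi : IsIso b := isIso_of_isHomLift_id 𝒴.p g𝒴 (U := 𝒳.p.obj x) b
  obtain ⟨R, hR, h1⟩ := h (fpMk f f x x' (asIso b) hb)
  refine ⟨R, hR, fun V c hc => ?_⟩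
  obtain ⟨x₀, G, hG⟩ := h1 c hc
  haveI := hG
  refine ⟨x₀, G.hom.fst, G.hom.snd, fp_isHomLift_fst_of c G (h := hG),
    fp_isHomLift_snd_of c G (h := hG), ?_⟩
  exact G.hom.w.trans (Category.id_comp _)

/-- a gerbe is flat and locally of finite presentation -/
theorem locQ_of_isGerbeOver (h𝒳 : AlgSt.IsAlgStack Scheme.fppfPrecoverage 𝒳)
    (h𝒴 : AlgSt.IsAlgStack Scheme.fppfPrecoverage 𝒴) (f : 𝒳 ⥤ᵇ 𝒴)
    (hf : Gerb.IsGerbeOver (QuotSh.J Scheme.fppfPrecoverage S) f) :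
    AlgSt.LocQ (AlgSp.LocP @Flat) f ∧ AlgSt.LocQ (AlgSp.LocP @LocallyOfFinitePresentation) f := by
  have g𝒳 := h𝒳.isStack.1
  have g𝒴 := h𝒴.isStack.1
  obtain ⟨U, x, hx1, hx3⟩ := h𝒳.atlas
  obtain ⟨V, y, hy1, hy3⟩ := h𝒴.atlas
  have hLf : LES f := les_of_locSurjObj g𝒳 g𝒴 f hf.1
  have hLx : LES x := AlgStDiagLft.les_of_smooth_surjective x hx1 hx3
  have hL : LES (BasedFunctor.comp x f) := les_comp x f hLx hLf
  have hrep : AlgSt.RepByAlgSp1 (BasedFunctor.comp x f) :=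
    AlgStDiag.repByAlgSp1_chart_of_diag g𝒴 h𝒴.diag U _
  obtain ⟨V', c, z, hc1, hc2, hc3, ⟨ι⟩⟩ :=
    exists_single_chart (BasedFunctor.comp x f) hrep hL V y
  have gV' := isFibGrpd_overCat V'
  have gV := isFibGrpd_overCat V
  have hV' := AlgStQCMor.isAlgStack_overCat V'
  obtain ⟨w, hw⟩ : ∃ w : FibCat.overCat V' ⥤ᵇ 𝒴, w = BasedFunctor.comp (AlgSt.overMap c) y :=
    ⟨_, rfl⟩
  have hw1 : AlgSt.RepByAlgSpWith (LocP @Flat) w := by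
    rw [hw]
    exact good_flat.toC.repComp gV' gV (AlgSt.overMap c) y
      (AlgStPoints.rep_overMap etale_le_flat good_flat c hc1)
      (AlgStDiagLft.repByAlgSpWith_mono (AlgStDiagLft.locP_mono AlgStDiagLft.smooth_le_flat) hy1)
  have hw2 : AlgSt.RepByAlgSpWith (LocP @LocallyOfFinitePresentation) w := by
    rw [hw]
    exact good_lfp.toC.repComp gV' gV (AlgSt.overMap c) y
      (AlgStPoints.rep_overMap etale_le_lfp good_lfp c hc2)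
      (AlgStDiagLft.repByAlgSpWith_mono (AlgStDiagLft.locP_mono AlgStDiagLft.smooth_le_lfp) hy1)
  have hw3 : AlgSt.RepByAlgSpWith IsSurjectiveMor w := by
    rw [hw]
    exact good_isSurjectiveMor.toC.repComp gV' gV (AlgSt.overMap c) y (rep_overMap_surj c hc3) hy3
  have ι' : BasedFunctor.comp (BasedFunctor.comp z x) f ≅ w := by rw [hw]; exact ι
  -- the base change of `f` to `V'` has a section
  have hfp : AlgSt.IsAlgStack Scheme.fppfPrecoverage (FibCat.fp w f) :=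
    AlgStAlgebraic.isAlgStack_fp h𝒴.isStack h𝒴.diag hV' h𝒳 w f
  have hgerbe : Gerb.IsGerbeOver (QuotSh.J Scheme.fppfPrecoverage S) (FibCat.fpFst w f) :=
    isGerbeOver_fpFst _ gV' g𝒴 w f hf
  obtain ⟨σ, hσ⟩ : ∃ σ : FibCat.overCat V' ⥤ᵇ FibCat.fp w f,
      σ = FibCat.fpLift (BasedFunctor.id _) (BasedFunctor.comp z x)
        (ι'.symm : BasedFunctor.comp (BasedFunctor.id _) w ≅
          BasedFunctor.comp (BasedFunctor.comp z x) f) := ⟨_, rfl⟩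
  have hσπ : BasedFunctor.comp σ (FibCat.fpFst w f) = BasedFunctor.id _ := by
    rw [hσ]; exact basedFunctor_ext rfl
  obtain ⟨s1, s2, s3⟩ := main_over hfp V' (FibCat.fpFst w f) hgerbe σ (eqToIso hσπ)
  have q1 : AlgSt.LocQ (LocP @Flat) σ :=
    AlgStLocQ.locQ_of_rep SmSrc.isSmoothLocalST_flat hfp σ s1
  have q2 : AlgSt.LocQ (LocP @LocallyOfFinitePresentation) σ :=
    AlgStLocQ.locQ_of_rep SmSrc.isSmoothLocalST_lfp hfp σ s2
  have q3 : AlgSt.IsSurjective σ := AlgStPoints.isSurjective_of_rep hfp.isStack.1 σ s3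
  have id1 : AlgSt.LocQ (LocP @Flat) (BasedFunctor.comp σ (FibCat.fpFst w f)) := by
    rw [hσπ]
    exact AlgStLocQ.locQ_of_rep SmSrc.isSmoothLocalST_flat hV' _
      (AlgStLocQ.repByAlgSpWith_id _ (fun X => locP_id etale_le_flat X) _)
  have id2 : AlgSt.LocQ (LocP @LocallyOfFinitePresentation)
      (BasedFunctor.comp σ (FibCat.fpFst w f)) := by
    rw [hσπ]
    exact AlgStLocQ.locQ_of_rep SmSrc.isSmoothLocalST_lfp hV' _
      (AlgStLocQ.repByAlgSpWith_id _ (fun X => locP_id etale_le_lfp X) _)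
  have p1 : AlgSt.LocQ (LocP @Flat) (FibCat.fpFst w f) :=
    AlgStLocQ.locQ_flat_of_comp hV' hfp hV' σ (FibCat.fpFst w f) q1 q3 id1
  have p2 : AlgSt.LocQ (LocP @LocallyOfFinitePresentation) (FibCat.fpFst w f) :=
    AlgStLocQ.locQ_lfp_of_fppf_comp hV' hfp hV' σ (FibCat.fpFst w f) q1 q2 q3 id2
  -- descend along `w`
  have wq1 : AlgSt.LocQ (LocP @Flat) w := AlgStLocQ.locQ_of_rep SmSrc.isSmoothLocalST_flat h𝒴 w hw1
  have wq2 : AlgSt.LocQ (LocP @LocallyOfFinitePresentation) w :=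
    AlgStLocQ.locQ_of_rep SmSrc.isSmoothLocalST_lfp h𝒴 w hw2
  have wq3 : AlgSt.IsSurjective w := AlgStPoints.isSurjective_of_rep g𝒴 w hw3
  exact ⟨AlgStLocQ.locQ_of_fpFst_fppf SmSrc.isSmoothLocalST_flat good_flat.loc h𝒳 h𝒴 f hV' w
      wq1 wq2 wq3 p1,
    AlgStLocQ.locQ_of_fpFst_fppf SmSrc.isSmoothLocalST_lfp good_lfp.loc h𝒳 h𝒴 f hV' w
      wq1 wq2 wq3 p2⟩

/-- **Stacks 06QI**: the fppf criterion for gerbes -/
theorem isGerbeOver_iff (h𝒳 : AlgSt.IsAlgStack Scheme.fppfPrecoverage 𝒳)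
    (h𝒴 : AlgSt.IsAlgStack Scheme.fppfPrecoverage 𝒴) (f : 𝒳 ⥤ᵇ 𝒴) :
    Gerb.IsGerbeOver (QuotSh.J Scheme.fppfPrecoverage S) f ↔
      (AlgSt.IsSurjective f ∧ AlgSt.LocQ (AlgSp.LocP @Flat) f ∧
        AlgSt.LocQ (AlgSp.LocP @LocallyOfFinitePresentation) f) ∧
      (AlgSt.IsSurjective (FibCat.diag f) ∧ AlgSt.LocQ (AlgSp.LocP @Flat) (FibCat.diag f) ∧
        AlgSt.LocQ (AlgSp.LocP @LocallyOfFinitePresentation) (FibCat.diag f)) := by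
  have hfp : AlgSt.IsAlgStack Scheme.fppfPrecoverage (FibCat.fp f f) :=
    AlgStAlgebraic.isAlgStack_fp h𝒴.isStack h𝒴.diag h𝒳 h𝒳 f f
  constructor
  · intro hf
    obtain ⟨d1, d2, d3⟩ := rep_diag h𝒳 h𝒴 f hf
    obtain ⟨p1, p2⟩ := locQ_of_isGerbeOver h𝒳 h𝒴 f hf
    exact ⟨⟨Groth.Agent.H4.GrbA.surjective_of_locSurjObj h𝒳.isStack.1 f hf.1, p1, p2⟩,
      AlgStPoints.isSurjective_of_rep hfp.isStack.1 _ d3,
      AlgStLocQ.locQ_of_rep SmSrc.isSmoothLocalST_flat hfp _ d1,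
      AlgStLocQ.locQ_of_rep SmSrc.isSmoothLocalST_lfp hfp _ d2⟩
  · rintro ⟨⟨h1, h2, h3⟩, d1, d2, d3⟩
    have L1 : LES f := AlgStLocQ.les_of_locQ_fppf h𝒳 h𝒴 f h2 h3 h1
    have L2 : LES (FibCat.diag f) := AlgStLocQ.les_of_locQ_fppf h𝒳 hfp (FibCat.diag f) d2 d3 d1
    exact ⟨locSurjObj_of_les h𝒴.isStack.1 f L1,
      locSurjHom_of_locSurjObj_diag h𝒴.isStack.1 f
        (locSurjObj_of_les hfp.isStack.1 (FibCat.diag f) L2)⟩

end Groth.Agent.H3.GerbSec
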