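import Mathlib
import Groth.Agent.Lib.Helper3.GerbSec.Crit
import Groth.Agent.Lib.Helper3.SmSrc.Smooth
import Groth.Agent.Lib.Helper3.AlgSt.LocQ5
import Groth.Agent.Lib.Helper9.Misc.QSM1

/-!
# Gerbes are smooth (helper3)

Stacks 0DN8: if `f : 𝒳 ⟶ 𝒴` makes the algebraic stack `𝒳` a gerbe over `𝒴`, then `f` is surjective
and smooth.  Smoothness descends along fppf covers of the source (helper9's `QSM1`).
-/

set_option autoImplicit false
universe u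
open CategoryTheory CategoryTheory.Limits Opposite AlgebraicGeometry

namespace Groth.Agent.H3.GerbSec

open Groth.Agent.H3.FibCatAux Groth.Agent.H3.GerbAux Groth.Agent.H3.FpCalc Groth.Agent.H3.TwoCart
  Groth.Agent.H3.StackPsh Groth.Agent.H3.PshBridge Groth.Agent.H3.AlgStAux Groth.Agent.H3.RepBridge
  Groth.Agent.H3.SetoidPsh Groth.Agent.H3.BaseChangeSp Groth.Agent.H3.AlgStComp
  Groth.Agent.H3.AlgStProps Groth.Agent.H3.AlgStBridge2 Groth.Agent.H3.AlgStCharts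
  Groth.Agent.H3.AlgStDescent Groth.Agent.H3.Whisker Groth.Agent.H3.AlgStLES
  Groth.Agent.H3.AlgSpCov Groth.Agent.H5.AlgSp Groth.Agent.H3.StkAux
open AlgSp

variable {S : Scheme.{u}} {𝒳 𝒴 𝒵 : AlgSt.Cat S}

/-- smoothness descends along an fppf surjection on the source -/
theorem locQ_smooth_of_fppf_comp (h𝒳 : AlgSt.IsAlgStack Scheme.fppfPrecoverage 𝒳)
    (h𝒴 : AlgSt.IsAlgStack Scheme.fppfPrecoverage 𝒴)
    (h𝒵 : AlgSt.IsAlgStack Scheme.fppfPrecoverage 𝒵) (f : 𝒳 ⥤ᵇ 𝒴) (g : 𝒴 ⥤ᵇ 𝒵)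
    (hf₁ : AlgSt.LocQ (AlgSp.LocP @Flat) f)
    (hf₂ : AlgSt.LocQ (AlgSp.LocP @LocallyOfFinitePresentation) f) (hf₃ : AlgSt.IsSurjective f)
    (hfg : AlgSt.LocQ (AlgSp.LocP @Smooth) (BasedFunctor.comp f g)) :
    AlgSt.LocQ (AlgSp.LocP @Smooth) g := by
  obtain ⟨U, V, W, x, y, z, h, k, α, β, γ, hx₁, hx₂, hy₁, hy₂, hz₁, hz₂, hPf, hPg, hPfg, hsf, hsg⟩ :=
    AlgStLocQ.exists_comp_square h𝒳 h𝒴 h𝒵 f g
  have h1 := hPfg _ SmSrc.isSmoothLocalST_smooth hfg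
  have h2 := hPf _ SmSrc.isSmoothLocalST_flat hf₁
  have h2' := hPf _ SmSrc.isSmoothLocalST_lfp hf₂
  have h3 := hsf hf₃
  rw [Groth.Agent.H5.AlgSp.locP_yon_map_iff Groth.Agent.H3.AlgSpCov.etale_le_smooth] at h1
  rw [Groth.Agent.H5.AlgSp.locP_yon_map_iff Groth.Agent.H5.AlgSp.etale_le_flat] at h2
  rw [Groth.Agent.H5.AlgSp.locP_yon_map_iff Groth.Agent.H5.AlgSp.etale_le_lfp] at h2'
  refine ⟨V, W, y, z, k, β, hy₁, hy₂, hz₁, ?_⟩
  rw [Groth.Agent.H5.AlgSp.locP_yon_map_iff Groth.Agent.H3.AlgSpCov.etale_le_smooth]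
  rw [Over.comp_left] at h1
  haveI : Flat h.left := h2
  haveI : LocallyOfFinitePresentation h.left := h2'
  haveI : Surjective h.left := ⟨h3⟩
  haveI : Smooth (h.left ≫ k.left) := h1
  haveI : LocallyOfFinitePresentation (h.left ≫ k.left) := inferInstance
  haveI : LocallyOfFinitePresentation k.left :=
    Groth.Agent.H3.FppfSrc.locallyOfFinitePresentation_of_family (ι := PUnit.{1})
      (fun _ => U.left) (fun _ => h.left) k.left (fun v => ⟨⟨⟩, h3 v⟩) (fun _ => inferInstance)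
  exact Groth.Agent.H9.QSM.smooth_of_flat_surjective h.left k.left

/-- **Stacks 0DN8**: a gerbe is smooth -/
theorem locQ_smooth_of_isGerbeOver (h𝒳 : AlgSt.IsAlgStack Scheme.fppfPrecoverage 𝒳)
    (h𝒴 : AlgSt.IsAlgStack Scheme.fppfPrecoverage 𝒴) (f : 𝒳 ⥤ᵇ 𝒴)
    (hf : Gerb.IsGerbeOver (QuotSh.J Scheme.fppfPrecoverage S) f) :
    AlgSt.LocQ (AlgSp.LocP @Smooth) f := by
  have g𝒳 := h𝒳.isStack.1
  have g𝒴 := h𝒴.isStack.1
  obtain ⟨U, x, hx1, hx3⟩ := h𝒳.atlas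
  obtain ⟨V, y, hy1, hy3⟩ := h𝒴.atlas
  have hLf : LES f := les_of_locSurjObj g𝒳 g𝒴 f hf.1
  have hLx : LES x := AlgStDiagLft.les_of_smooth_surjective x hx1 hx3
  have hL : LES (BasedFunctor.comp x f) := les_comp x f hLx hLf
  have hrep : AlgSt.RepByAlgSp1 (BasedFunctor.comp x f) :=
    AlgStDiag.repByAlgSp1_chart_of_diag g𝒴 h𝒴.diag U _
  obtain ⟨V', c, z, hc1, hc2, hc3, ⟨ι⟩⟩ :=
    exists_single_chart (BasedFunctor.comp x f) hrep hL V y
  have gV' := isFibGrpd_overCat V'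
  have gV := isFibGrpd_overCat V
  have hV' := AlgStQCMor.isAlgStack_overCat V'
  obtain ⟨w, hw⟩ : ∃ w : FibCat.overCat V' ⥤ᵇ 𝒴, w = BasedFunctor.comp (AlgSt.overMap c) y :=
    ⟨_, rfl⟩
  have hw1 : AlgSt.RepByAlgSpWith (LocP @Flat) w := by
    rw [hw]
    exact good_flat.toC.repComp gV' gV (AlgSt.overMap c) y
      (AlgStPoints.rep_overMap etale_le_flat good_flat c hc1)
      (AlgStDiagLft.repByAlgSpWith_mono (AlgStDiagLft.locP_mono AlgStDiagLft.smooth_le_flat) hy1)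
  have hw2 : AlgSt.RepByAlgSpWith (LocP @LocallyOfFinitePresentation) w := by
    rw [hw]
    exact good_lfp.toC.repComp gV' gV (AlgSt.overMap c) y
      (AlgStPoints.rep_overMap etale_le_lfp good_lfp c hc2)
      (AlgStDiagLft.repByAlgSpWith_mono (AlgStDiagLft.locP_mono AlgStDiagLft.smooth_le_lfp) hy1)
  have hw3 : AlgSt.RepByAlgSpWith IsSurjectiveMor w := by
    rw [hw]
    exact good_isSurjectiveMor.toC.repComp gV' gV (AlgSt.overMap c) y (rep_overMap_surj c hc3) hy3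
  have ι' : BasedFunctor.comp (BasedFunctor.comp z x) f ≅ w := by rw [hw]; exact ι
  have hfp : AlgSt.IsAlgStack Scheme.fppfPrecoverage (FibCat.fp w f) :=
    AlgStAlgebraic.isAlgStack_fp h𝒴.isStack h𝒴.diag hV' h𝒳 w f
  have hgerbe : Gerb.IsGerbeOver (QuotSh.J Scheme.fppfPrecoverage S) (FibCat.fpFst w f) :=
    isGerbeOver_fpFst _ gV' g𝒴 w f hf
  obtain ⟨σ, hσ⟩ : ∃ σ : FibCat.overCat V' ⥤ᵇ FibCat.fp w f,
      σ = FibCat.fpLift (BasedFunctor.id _) (BasedFunctor.comp z x)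
        (ι'.symm : BasedFunctor.comp (BasedFunctor.id _) w ≅
          BasedFunctor.comp (BasedFunctor.comp z x) f) := ⟨_, rfl⟩
  have hσπ : BasedFunctor.comp σ (FibCat.fpFst w f) = BasedFunctor.id _ := by
    rw [hσ]; exact basedFunctor_ext rfl
  obtain ⟨s1, s2, s3⟩ := main_over hfp V' (FibCat.fpFst w f) hgerbe σ (eqToIso hσπ)
  have q1 : AlgSt.LocQ (LocP @Flat) σ :=
    AlgStLocQ.locQ_of_rep SmSrc.isSmoothLocalST_flat hfp σ s1
  have q2 : AlgSt.LocQ (LocP @LocallyOfFinitePresentation) σ :=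
    AlgStLocQ.locQ_of_rep SmSrc.isSmoothLocalST_lfp hfp σ s2
  have q3 : AlgSt.IsSurjective σ := AlgStPoints.isSurjective_of_rep hfp.isStack.1 σ s3
  have id1 : AlgSt.LocQ (LocP @Smooth) (BasedFunctor.comp σ (FibCat.fpFst w f)) := by
    rw [hσπ]
    exact AlgStLocQ.locQ_of_rep SmSrc.isSmoothLocalST_smooth hV' _
      (AlgStLocQ.repByAlgSpWith_id _ (fun X => locP_smooth_id X) _)
  have p1 : AlgSt.LocQ (LocP @Smooth) (FibCat.fpFst w f) :=
    locQ_smooth_of_fppf_comp hV' hfp hV' σ (FibCat.fpFst w f) q1 q2 q3 id1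
  have wq1 : AlgSt.LocQ (LocP @Flat) w := AlgStLocQ.locQ_of_rep SmSrc.isSmoothLocalST_flat h𝒴 w hw1
  have wq2 : AlgSt.LocQ (LocP @LocallyOfFinitePresentation) w :=
    AlgStLocQ.locQ_of_rep SmSrc.isSmoothLocalST_lfp h𝒴 w hw2
  have wq3 : AlgSt.IsSurjective w := AlgStPoints.isSurjective_of_rep g𝒴 w hw3
  exact AlgStLocQ.locQ_of_fpFst_fppf SmSrc.isSmoothLocalST_smooth good_smooth.loc h𝒳 h𝒴 f hV' w
    wq1 wq2 wq3 p1

end Groth.Agent.H3.GerbSec
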